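import Cfsg.Agent.StdSpSix.TR

/-!
# Transfer when `|C(t) : ⟨t⟩ L|` is even

`P` is a 2-group normalised by commuting involutions `t`, `f`, every involution of `t P` is `P`-conjugate to `t`, and
`T ≤ P ⟨t, f⟩` is a Sylow 2-subgroup of `C_G(t)` generated by involutions. If no involution of `f P` which centralises `t` is
conjugate to `t` in `G`, then there is a homomorphism `G → {±1}` with `t ↦ -1` (`exists_hom`).
-/

set_option autoImplicit false

namespace Cfsg.Agent.Doubling.Even

variable {G : Type*} [Group G]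

/-! ### Adjoining an involution -/

/-- The subgroup `K ⟨a⟩`. -/
def adj (K : Subgroup G) (a : G) (haa : a * a = 1) (hn : ∀ k ∈ K, a * k * a ∈ K) : Subgroup G where
  carrier := {g | g ∈ K ∨ a * g ∈ K}
  one_mem' := Or.inl (one_mem _)
  mul_mem' := by
    rintro g h (hg | hg) (hh | hh)
    · exact Or.inl (mul_mem hg hh)
    · right
      have h1 := mul_mem (hn g hg) hh
      have e : a * g * a * (a * h) = a * (g * h) := by
        calc a * g * a * (a * h) = a * g * (a * a) * h := by group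
          _ = a * (g * h) := by rw [haa]; group
      rwa [e] at h1
    · right
      have h1 := mul_mem hg hh
      rwa [mul_assoc] at h1
    · left
      have h1 := mul_mem (hn _ hg) hh
      have e : a * (a * g) * a * (a * h) = g * h := by
        calc a * (a * g) * a * (a * h) = (a * a) * g * (a * a) * h := by group
          _ = g * h := by rw [haa]; group
      rwa [e] at h1
  inv_mem' := by
    rintro g (hg | hg)
    · exact Or.inl (inv_mem hg)
    · right
      have h1 := hn _ (inv_mem hg)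
      have ainv : a⁻¹ = a := inv_eq_of_mul_eq_one_left haa
      have e : a * (a * g)⁻¹ * a = a * g⁻¹ := by
        rw [mul_inv_rev, ainv]
        calc a * (g⁻¹ * a) * a = a * g⁻¹ * (a * a) := by group
          _ = a * g⁻¹ := by rw [haa]; group
      rwa [e] at h1

section adj

variable {K : Subgroup G} {a : G} {haa : a * a = 1} {hn : ∀ k ∈ K, a * k * a ∈ K}

theorem mem_adj {g : G} : g ∈ adj K a haa hn ↔ g ∈ K ∨ a * g ∈ K := Iff.rfl

theorem le_adj : K ≤ adj K a haa hn := fun _ h => Or.inl h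

theorem self_mem : a ∈ adj K a haa hn := Or.inr (by rw [haa]; exact one_mem _)

open Classical in
/-- The sign with kernel `K`. -/
noncomputable def sign (_ha : a ∉ K) : adj K a haa hn →* ℤˣ where
  toFun g := if (g : G) ∈ K then 1 else -1
  map_one' := if_pos (one_mem _)
  map_mul' := by
    rintro ⟨g, hg⟩ ⟨h, hh⟩
    have key : ∀ g, g ∈ adj K a haa hn → g ∉ K → a * g ∈ K := fun g hg hn => hg.resolve_left hn
    simp only [MulMemClass.mk_mul_mk]
    by_cases h1 : g ∈ K <;> by_cases h2 : h ∈ K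
    · rw [if_pos h1, if_pos h2, if_pos (mul_mem h1 h2), one_mul]
    · have h3 : g * h ∉ K := fun hn => h2 (by
        have := mul_mem (inv_mem h1) hn
        rwa [inv_mul_cancel_left] at this)
      rw [if_pos h1, if_neg h2, if_neg h3, one_mul]
    · have h3 : g * h ∉ K := fun hn => h1 (by
        have := mul_mem hn (inv_mem h2)
        rwa [mul_inv_cancel_right] at this)
      rw [if_neg h1, if_pos h2, if_neg h3, mul_one]
    · have h4 := key g hg h1
      have h5 := key h hh h2
      have h6 := mul_mem (hn _ h4) h5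
      have h7 : a * (a * g) * a * (a * h) = g * h := by
        calc a * (a * g) * a * (a * h) = (a * a) * g * (a * a) * h := by group
          _ = g * h := by rw [haa]; group
      rw [h7] at h6
      rw [if_neg h1, if_neg h2, if_pos h6]
      rfl

theorem sign_apply (ha : a ∉ K) (g : adj K a haa hn) : sign ha g = -1 ↔ (g : G) ∉ K := by
  classical
  show (if (g : G) ∈ K then (1 : ℤˣ) else -1) = -1 ↔ _
  by_cases h1 : (g : G) ∈ K
  · rw [if_pos h1]
    exact ⟨fun h => absurd h (by decide), fun h => absurd h1 h⟩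
  · rw [if_neg h1]
    exact ⟨fun _ => h1, fun _ => rfl⟩

end adj

/-! ### The transfer lemma -/

open Subgroup in
/-- (TR), fifth form: only the conjugates of `t` which come from `T`-fixed cosets have to be in the class of `t`. -/
theorem exists_hom_of_fixed_class [Finite G] {H : Subgroup G} (l : H →* ℤˣ) {t : G} (ht : t * t = 1) (htH : t ∈ H)
    (hlt : l ⟨t, htH⟩ = -1) (T : Subgroup G) (hT : IsPGroup 2 T) (hTt : ∀ x ∈ T, Commute x t)
    (hcl : ∀ g : G, ∀ h : g⁻¹ * t * g ∈ H, l ⟨g⁻¹ * t * g, h⟩ = -1 → (∀ x ∈ T, g⁻¹ * x * g ∈ H) →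
      ∃ k ∈ H, g⁻¹ * t * g = k * t * k⁻¹)
    (hodd : Odd (H.relIndex (centralizer ({t} : Set G)))) : ∃ m : G →* ℤˣ, m t = -1 := by
  classical
  refine Cfsg.Agent.StdSpSix.TR.exists_hom_of_fixed l ht T hT hTt ?_
  set C : Subgroup G := centralizer ({t} : Set G) with hC
  have hmem : ∀ g, g ∈ C ↔ g * t = t * g := fun g => mem_centralizer_singleton_iff
  let S : Type _ := {q : G ⧸ H // ∃ c ∈ C, (c : G ⧸ H) = q}
  have hcard : Nat.card S = H.relIndex C := by
    rw [relIndex, index]
    symm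
    refine Nat.card_congr (Equiv.ofBijective (fun q : C ⧸ H.subgroupOf C =>
      (⟨Quotient.liftOn' q (fun c => ((c : G) : G ⧸ H)) ?_, ?_⟩ : S)) ⟨?_, ?_⟩)
    · intro a b hab
      rw [QuotientGroup.leftRel_apply, mem_subgroupOf] at hab
      rw [QuotientGroup.eq]
      exact hab
    · obtain ⟨c, rfl⟩ := QuotientGroup.mk_surjective q
      exact ⟨c, c.2, rfl⟩
    · intro q1 q2 h
      obtain ⟨c1, rfl⟩ := QuotientGroup.mk_surjective q1
      obtain ⟨c2, rfl⟩ := QuotientGroup.mk_surjective q2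
      have h1 : ((c1 : G) : G ⧸ H) = ((c2 : G) : G ⧸ H) := congrArg Subtype.val h
      rw [QuotientGroup.eq] at h1
      rw [QuotientGroup.eq, mem_subgroupOf]
      exact h1
    · rintro ⟨q, c, hc, rfl⟩
      exact ⟨((⟨c, hc⟩ : C) : C ⧸ H.subgroupOf C), rfl⟩
  let act : MulAction T S :=
    { smul := fun x q => ⟨(x : G) • (q : G ⧸ H), by
        obtain ⟨c, hc, h⟩ := q.2
        refine ⟨x * c, mul_mem ((hmem _).2 (hTt x x.2)) hc, ?_⟩
        rw [← h, MulAction.Quotient.smul_mk, smul_eq_mul]⟩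
      one_smul := fun q => Subtype.ext (one_smul G (q : G ⧸ H))
      mul_smul := fun x y q => Subtype.ext (mul_smul (x : G) (y : G) (q : G ⧸ H)) }
  have : Fact (Nat.Prime 2) := ⟨Nat.prime_two⟩
  have h1 := hT.card_modEq_card_fixedPoints S
  have h2 : Nat.card (MulAction.fixedPoints T S) =
      Nat.card {q : G ⧸ H // Cfsg.Agent.StdSpSix.TR.Bad l t q ∧ ∀ x ∈ T, x • q = q} := by
    have hfix : ∀ (q : S), q ∈ MulAction.fixedPoints T S → ∀ x ∈ T, x • (q : G ⧸ H) = q := fun q hq x hx =>
      congrArg Subtype.val (hq ⟨x, hx⟩)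
    have hbad : ∀ q : S, Cfsg.Agent.StdSpSix.TR.Bad l t (q : G ⧸ H) := by
      rintro ⟨q, c, hc, rfl⟩
      have h1 : (c : G)⁻¹ * t * c = t := by
        have := (hmem _).1 hc
        rw [mul_assoc, ← this, inv_mul_cancel_left]
      refine ⟨c, rfl, by rw [h1]; exact htH, ?_⟩
      rw [← hlt]
      congr 1
      exact Subtype.ext h1
    have hS : ∀ q : G ⧸ H, Cfsg.Agent.StdSpSix.TR.Bad l t q → (∀ x ∈ T, x • q = q) → ∃ c ∈ C, (c : G ⧸ H) = q := by
      rintro q ⟨g, rfl, h, hg⟩ hx
      obtain ⟨k, hk, hgk⟩ := hcl g h hg (fun x hxT => by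
        have h3 := hx x hxT
        rw [MulAction.Quotient.smul_mk, smul_eq_mul, eq_comm, QuotientGroup.eq, ← mul_assoc] at h3
        exact h3)
      have hc : g * k ∈ C := by
        rw [hmem]
        have : t = g * (k * t * k⁻¹) * g⁻¹ := by rw [← hgk]; group
        calc g * k * t = g * (k * t * k⁻¹) * g⁻¹ * (g * k) := by group
          _ = t * (g * k) := by rw [← this]
      refine ⟨g * k, hc, ?_⟩
      rw [eq_comm, QuotientGroup.eq, inv_mul_cancel_left]
      exact hk
    exact Nat.card_congr ⟨fun q => ⟨q.1.1, hbad q.1, hfix q.1 q.2⟩,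
      fun q => ⟨⟨q.1, hS q.1 q.2.1 q.2.2⟩, fun x => Subtype.ext (q.2.2 x x.2)⟩, fun q => rfl, fun q => rfl⟩
  rw [h2, hcard] at h1
  rw [Nat.odd_iff] at hodd ⊢
  unfold Nat.ModEq at h1
  rw [← h1, hodd]

/-! ### The abstract theorem -/

/-- The hypotheses. -/
structure Hyp (t f : G) (P : Subgroup G) (S : Set G) (y z : G) : Prop where
  tt : t * t = 1
  ff : f * f = 1
  tf : t * f = f * t
  tP : ∀ p ∈ P, t * p * t ∈ P
  fP : ∀ p ∈ P, f * p * f ∈ P
  f_notMem : f ∉ P
  t_notMem : t ∉ P
  conj : ∀ p ∈ P, (t * p) * (t * p) = 1 → ∃ c ∈ P, t * p = c * t * c⁻¹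
  sq : ∀ s ∈ S, s * s = 1
  comm : ∀ s ∈ S, s * t = t * s
  mem : ∀ s ∈ S, s ∈ P ∨ s = t ∨ s = f
  tS : t ∈ S
  yP : y ∈ P
  zP : z ∈ P
  y_ne : y ≠ 1
  z_ne : z ≠ 1
  yz_ne : y ≠ z
  zz : z * z = 1
  tz : t * z = z * t
  yc : ∀ p ∈ P, y * p = p * y
  zc : ∀ p ∈ P, z * p = p * z
  yf : y * f = f * y
  zf : z * f = f * z
  cent : ∀ g, g * t = t * g → (∀ s ∈ S, g * s = s * g) → g = 1 ∨ g = t ∨ g = z ∨ g = t * z
  no : ∀ u ∈ P, u * t = t * u → (f * u) * (f * u) = 1 → ∀ g, g⁻¹ * t * g ≠ f * u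

namespace Hyp

variable {t f : G} {P : Subgroup G} {S : Set G} {y z : G}

theorem t_inv (h : Hyp t f P S y z) : t⁻¹ = t := inv_eq_of_mul_eq_one_left h.tt
theorem f_inv (h : Hyp t f P S y z) : f⁻¹ = f := inv_eq_of_mul_eq_one_left h.ff

theorem tftf (h : Hyp t f P S y z) : (t * f) * (t * f) = 1 := by
  calc (t * f) * (t * f) = t * (f * t) * f := by group
    _ = (t * t) * (f * f) := by rw [← h.tf]; group
    _ = 1 := by rw [h.tt, h.ff, one_mul]

theorem tfP (h : Hyp t f P S y z) : ∀ p ∈ P, (t * f) * p * (t * f) ∈ P := fun p hp => by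
  have h1 := h.tP _ (h.fP p hp)
  have e : t * (f * p * f) * t = (t * f) * p * (t * f) := by
    calc t * (f * p * f) * t = (t * f) * p * (f * t) := by group
      _ = _ := by rw [← h.tf]
  rwa [e] at h1

/-- The kernel of the sign. -/
def K (h : Hyp t f P S y z) : Subgroup G := adj P (t * f) h.tftf h.tfP

theorem tK (h : Hyp t f P S y z) : ∀ k ∈ h.K, t * k * t ∈ h.K := by
  rintro k (hk | hk)
  · exact Or.inl (h.tP k hk)
  · right
    have h1 := h.tP _ hk
    have e : t * (t * f * k) * t = t * f * (t * k * t) := by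
      calc t * (t * f * k) * t = t * (t * f) * k * t := by group
        _ = t * (f * t) * k * t := by rw [h.tf]
        _ = t * f * (t * k * t) := by group
    rwa [e] at h1

/-- The whole group. -/
def H (h : Hyp t f P S y z) : Subgroup G := adj h.K t h.tt h.tK

theorem t_notMem_K (h : Hyp t f P S y z) : t ∉ h.K := by
  rintro (hk | hk)
  · exact h.t_notMem hk
  · apply h.f_notMem
    have e : t * f * t = f := by
      calc t * f * t = f * (t * t) := by rw [h.tf]; group
        _ = f := by rw [h.tt, mul_one]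
    rwa [e] at hk

theorem P_le (h : Hyp t f P S y z) : P ≤ h.H := fun _ hp => Or.inl (Or.inl hp)

/-- Membership in the four cosets. -/
theorem mem_H (h : Hyp t f P S y z) {g : G} (hg : g ∈ h.H) : g ∈ P ∨ t * f * g ∈ P ∨ t * g ∈ P ∨ f * g ∈ P := by
  rcases hg with (hg | hg) | (hg | hg)
  · exact Or.inl hg
  · exact Or.inr (Or.inl hg)
  · exact Or.inr (Or.inr (Or.inl hg))
  · refine Or.inr (Or.inr (Or.inr ?_))
    have e : t * f * (t * g) = f * g := by
      calc t * f * (t * g) = (f * t) * (t * g) := by rw [h.tf]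
        _ = f * (t * t) * g := by group
        _ = f * g := by rw [h.tt, mul_one]
    rwa [e] at hg

theorem f_mem_H (h : Hyp t f P S y z) : f ∈ h.H := by
  right
  right
  have e : t * f * (t * f) = 1 := h.tftf
  show t * f * (t * f) ∈ P
  rw [e]
  exact one_mem _

theorem S_le (h : Hyp t f P S y z) {s : G} (hs : s ∈ S) : s ∈ h.H := by
  rcases h.mem s hs with h1 | rfl | rfl
  · exact h.P_le h1
  · exact self_mem
  · exact h.f_mem_H

/-- No `T`-fixed bad coset in `f P`. -/
theorem notMem (h : Hyp t f P S y z) {g : G} (hx : f * (g⁻¹ * t * g) ∈ P) (hS : ∀ s ∈ S, g⁻¹ * s * g ∈ h.H) : False := by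
  obtain ⟨x, hxd⟩ : ∃ x, x = g⁻¹ * t * g := ⟨_, rfl⟩
  rw [← hxd] at hx
  have hxx : x * x = 1 := by
    rw [hxd]
    calc g⁻¹ * t * g * (g⁻¹ * t * g) = g⁻¹ * (t * t) * g := by group
      _ = 1 := by rw [h.tt]; group
  by_cases hall : ∀ s ∈ S, g⁻¹ * s * g ∈ P ∨ f * (g⁻¹ * s * g) ∈ P
  · -- `y`, `z` centralise `T'`
    have key : ∀ w, (∀ p ∈ P, w * p = p * w) → w * f = f * w → ∀ k, (k ∈ P ∨ f * k ∈ P) → w * k = k * w := by
      intro w hw hwf k hk
      rcases hk with hk | hk
      · exact hw k hk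
      · have e := hw _ hk
        have e2 : f * (w * k) = f * (k * w) := by
          calc f * (w * k) = (f * w) * k := by group
            _ = w * (f * k) := by rw [← hwf]; group
            _ = f * (k * w) := by rw [e]; group
        exact mul_left_cancel e2
    have key2 : ∀ w, (∀ p ∈ P, w * p = p * w) → w * f = f * w →
        (g * w * g⁻¹ = 1 ∨ g * w * g⁻¹ = t ∨ g * w * g⁻¹ = z ∨ g * w * g⁻¹ = t * z) := by
      intro w hw hwf
      have hcs : ∀ s ∈ S, g * w * g⁻¹ * s = s * (g * w * g⁻¹) := fun s hs => by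
        have e := key w hw hwf _ (hall s hs)
        calc g * w * g⁻¹ * s = g * (w * (g⁻¹ * s * g)) * g⁻¹ := by group
          _ = s * (g * w * g⁻¹) := by rw [e]; group
      exact h.cent _ (hcs t h.tS) hcs
    have hyz : ∀ p ∈ P, y * z * p = p * (y * z) := fun p hp => by
      rw [mul_assoc, h.zc p hp, ← mul_assoc, h.yc p hp, mul_assoc]
    have hyzf : y * z * f = f * (y * z) := by
      rw [mul_assoc, h.zf, ← mul_assoc, h.yf, mul_assoc]
    have hxP : x ∉ P := fun hxP => h.f_notMem (by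
      have := mul_mem hx (inv_mem hxP)
      rwa [mul_inv_cancel_right] at this)
    have hback : ∀ w ∈ P, g * w * g⁻¹ ≠ t := fun w hw e => hxP (by
      rw [hxd, ← e]
      have : g⁻¹ * (g * w * g⁻¹) * g = w := by group
      rwa [this])
    have hne : ∀ w, w ≠ 1 → g * w * g⁻¹ ≠ 1 := fun w hw e => hw (by
      have : w = g⁻¹ * (g * w * g⁻¹) * g := by group
      rw [this, e]; group)
    have z_inv : z⁻¹ = z := inv_eq_of_mul_eq_one_left h.zz
    have hyz1 : y * z ≠ 1 := fun e => h.yz_ne (by rw [mul_eq_one_iff_eq_inv, z_inv] at e; exact e)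
    have a1 : g * y * g⁻¹ = z ∨ g * y * g⁻¹ = t * z := by
      rcases key2 y h.yc h.yf with e | e | e
      · exact absurd e (hne y h.y_ne)
      · exact absurd e (hback y h.yP)
      · exact e
    have a2 : g * z * g⁻¹ = z ∨ g * z * g⁻¹ = t * z := by
      rcases key2 z h.zc h.zf with e | e | e
      · exact absurd e (hne z h.z_ne)
      · exact absurd e (hback z h.zP)
      · exact e
    have ha12 : g * y * g⁻¹ ≠ g * z * g⁻¹ := fun e => h.yz_ne (mul_left_cancel (mul_right_cancel e))
    have ha3 : g * (y * z) * g⁻¹ = (g * y * g⁻¹) * (g * z * g⁻¹) := by group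
    have ha3' := hback _ (mul_mem h.yP h.zP)
    rw [ha3] at ha3'
    rcases a1 with a1 | a1 <;> rcases a2 with a2 | a2
    · exact ha12 (a1.trans a2.symm)
    · apply ha3'
      rw [a1, a2, h.tz, ← mul_assoc, h.zz, one_mul]
    · apply ha3'
      rw [a1, a2, mul_assoc, h.zz, mul_one]
    · exact ha12 (a1.trans a2.symm)
  · push Not at hall
    obtain ⟨s, hs, hs1, hs2⟩ := hall
    obtain ⟨j, hjd⟩ : ∃ j, j = g⁻¹ * s * g := ⟨_, rfl⟩
    rw [← hjd] at hs1 hs2
    have hjj : j * j = 1 := by
      rw [hjd]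
      calc g⁻¹ * s * g * (g⁻¹ * s * g) = g⁻¹ * (s * s) * g := by group
        _ = 1 := by rw [h.sq s hs]; group
    have hjx : j * x = x * j := by
      rw [hjd, hxd]
      calc g⁻¹ * s * g * (g⁻¹ * t * g) = g⁻¹ * (s * t) * g := by group
        _ = g⁻¹ * t * g * (g⁻¹ * s * g) := by rw [h.comm s hs]; group
    -- an involution of `t P` commuting with `x`
    have hex : ∃ i, t * i ∈ P ∧ i * i = 1 ∧ i * x = x * i := by
      have hjH := h.mem_H (hS s hs)
      rw [← hjd] at hjH
      rcases hjH with h1 | h1 | h1 | h1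
      · exact absurd h1 hs1
      · refine ⟨x * j, ?_, ?_, ?_⟩
        · have h2 := mul_mem (h.tfP _ hx) h1
          have e : t * f * (f * x) * (t * f) * (t * f * j) = t * (x * j) := by
            calc t * f * (f * x) * (t * f) * (t * f * j) = t * (f * f) * x * ((t * f) * (t * f)) * j := by group
              _ = t * (x * j) := by rw [h.ff, h.tftf]; group
          rwa [e] at h2
        · calc x * j * (x * j) = x * (j * x) * j := by group
            _ = (x * x) * (j * j) := by rw [hjx]; group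
            _ = 1 := by rw [hxx, hjj, one_mul]
        · rw [mul_assoc, hjx]
      · exact ⟨j, h1, hjj, hjx⟩
      · exact absurd h1 hs2
    obtain ⟨i, hi, hii, hix⟩ := hex
    have e1 : t * (t * i) = i := by rw [← mul_assoc, h.tt, one_mul]
    obtain ⟨c, hc, hci⟩ := h.conj _ hi (by rw [e1]; exact hii)
    rw [e1] at hci
    -- move `i` to `t`
    have hu : f * (c⁻¹ * x * c) ∈ P := by
      have h2 := mul_mem (mul_mem (h.fP _ (inv_mem hc)) hx) hc
      have e : f * c⁻¹ * f * (f * x) * c = f * (c⁻¹ * x * c) := by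
        calc f * c⁻¹ * f * (f * x) * c = f * c⁻¹ * (f * f) * x * c := by group
          _ = _ := by rw [h.ff]; group
      rwa [e] at h2
    have hxt : (c⁻¹ * x * c) * t = t * (c⁻¹ * x * c) := by
      have e : t = c⁻¹ * i * c := by rw [hci]; group
      rw [e]
      calc c⁻¹ * x * c * (c⁻¹ * i * c) = c⁻¹ * (x * i) * c := by group
        _ = c⁻¹ * i * c * (c⁻¹ * x * c) := by rw [← hix]; group
    have e3 : f * (f * (c⁻¹ * x * c)) = c⁻¹ * x * c := by rw [← mul_assoc, h.ff, one_mul]
    refine h.no _ hu ?_ ?_ (g * c) ?_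
    · calc f * (c⁻¹ * x * c) * t = f * ((c⁻¹ * x * c) * t) := by group
        _ = (f * t) * (c⁻¹ * x * c) := by rw [hxt]; group
        _ = t * (f * (c⁻¹ * x * c)) := by rw [← h.tf]; group
    · rw [e3]
      calc c⁻¹ * x * c * (c⁻¹ * x * c) = c⁻¹ * (x * x) * c := by group
        _ = 1 := by rw [hxx]; group
    · rw [e3, hxd]
      group

/-- **The theorem.** -/
theorem exists_hom [Finite G] (h : Hyp t f P S y z) (hT : IsPGroup 2 (Subgroup.closure S))
    (hodd : Odd ((Subgroup.closure S).relIndex (Subgroup.centralizer {t}))) : ∃ m : G →* ℤˣ, m t = -1 := by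
  have htH : t ∈ h.H := self_mem
  have hlt : (sign h.t_notMem_K : h.H →* ℤˣ) ⟨t, htH⟩ = -1 := (sign_apply h.t_notMem_K _).2 h.t_notMem_K
  have hTt : ∀ x ∈ Subgroup.closure S, Commute x t := fun x hx => by
    have hle : Subgroup.closure S ≤ Subgroup.centralizer {t} := by
      rw [Subgroup.closure_le]
      intro s hs
      exact Subgroup.mem_centralizer_singleton_iff.2 (h.comm s hs)
    exact Subgroup.mem_centralizer_singleton_iff.1 (hle hx)
  have hTH : Subgroup.closure S ≤ h.H := by
    rw [Subgroup.closure_le]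
    exact fun s hs => h.S_le hs
  refine exists_hom_of_fixed_class (H := h.H) (sign h.t_notMem_K) h.tt htH hlt (Subgroup.closure S) hT hTt
    (fun g hg hl hS => ?_) ?_
  · have h1 := (sign_apply h.t_notMem_K _).1 hl
    have h2 : t * (g⁻¹ * t * g) ∈ h.K := hg.resolve_left h1
    rcases h2 with h2 | h2
    · have e1 : t * (t * (g⁻¹ * t * g)) = g⁻¹ * t * g := by rw [← mul_assoc, h.tt, one_mul]
      obtain ⟨c, hc, hcc⟩ := h.conj _ h2 (by
        rw [e1]
        calc g⁻¹ * t * g * (g⁻¹ * t * g) = g⁻¹ * (t * t) * g := by group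
          _ = 1 := by rw [h.tt]; group)
      rw [e1] at hcc
      exact ⟨c, h.P_le hc, hcc⟩
    · exfalso
      have e : t * f * (t * (g⁻¹ * t * g)) = f * (g⁻¹ * t * g) := by
        calc t * f * (t * (g⁻¹ * t * g)) = (f * t) * (t * (g⁻¹ * t * g)) := by rw [h.tf]
          _ = f * (t * t) * (g⁻¹ * t * g) := by group
          _ = _ := by rw [h.tt, mul_one]
      rw [e] at h2
      exact h.notMem h2 fun s hs => hS s (Subgroup.subset_closure hs)
  · have hle : Subgroup.closure S ≤ h.H ⊓ Subgroup.centralizer {t} :=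
      le_inf hTH fun x hx => Subgroup.mem_centralizer_singleton_iff.2 (hTt x hx)
    have h1 := Subgroup.relIndex_mul_relIndex (Subgroup.closure S) (h.H ⊓ Subgroup.centralizer {t})
      (Subgroup.centralizer {t}) hle inf_le_right
    rw [← h1, Subgroup.inf_relIndex_right] at hodd
    exact (Nat.odd_mul.1 hodd).2

end Hyp

end Cfsg.Agent.Doubling.Even
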