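import Cfsg.Agent.Doubling.Growth

/-!
# Orders in `Growth.Dbl`

`V k ∩ W k = 1`, `|W k| = c ^ k` if all `V i` have order `c`, and lower bounds for the fixed points of an automorphism of `W n`.
-/

set_option autoImplicit false

namespace Cfsg.Agent.Doubling.Growth

variable {G : Type*} [Group G]

/-- Two subgroups with trivial intersection in a third one. -/
theorem card_mul_le [Finite G] {A B S : Subgroup G} (hA : A ≤ S) (hB : B ≤ S) (h : ∀ b ∈ B, b ∈ A → b = 1) :
    Nat.card A * Nat.card B ≤ Nat.card S := by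
  rw [← Nat.card_prod]
  refine Nat.card_le_card_of_injective (fun p : A × B => (⟨p.1 * p.2, mul_mem (hA p.1.2) (hB p.2.2)⟩ : S)) ?_
  rintro ⟨⟨a, ha⟩, ⟨b, hb⟩⟩ ⟨⟨a', ha'⟩, ⟨b', hb'⟩⟩ e
  have e1 : a * b = a' * b' := congrArg Subtype.val e
  have e2 : b * b'⁻¹ = a⁻¹ * a' := by
    rw [eq_inv_mul_iff_mul_eq, ← mul_assoc, e1, mul_inv_cancel_right]
  have e3 : b * b'⁻¹ = 1 := h _ (mul_mem hb (inv_mem hb')) (by rw [e2]; exact mul_mem (inv_mem ha) ha')
  have e4 : b = b' := mul_inv_eq_one.1 e3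
  have e5 : a = a' := by
    rw [e4] at e1
    exact mul_right_cancel e1
  subst e4
  subst e5
  rfl

namespace Dbl

variable {t : G} {V X : ℕ → Subgroup G} {n : ℕ}

/-- `V k ∩ W k = 1` -/
theorem disj (h : Dbl t V X n) {k : ℕ} (hk : k < n) {v : G} (hv : v ∈ V k) (hw : v ∈ W V k) : v = 1 := by
  have h1 := (h.main k hk.le).1
  have hX : ∀ v ∈ V k, v ∈ W V k → t * v * t = v → v = 1 := by
    intro v hv hw hf
    have h3 : v ∈ X k ⊓ W X k := ⟨h.fix k hk v hv hf, h1 v hw hf⟩
    rw [h.indep k hk] at h3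
    exact Subgroup.mem_bot.1 h3
  have hv' := h.conj k hk v hv
  have hw' := h.conj_W hk.le hw
  have hcomm : ∀ a ∈ V k, ∀ b ∈ V k, a * b = b * a := by
    intro a ha b hb
    have e1 := h.sq k hk (a * b) (mul_mem ha hb)
    have e2 := h.sq k hk a ha
    have e3 := h.sq k hk b hb
    calc a * b = a * ((a * b) * (a * b)) * b := by rw [e1, mul_one]
      _ = (a * a) * (b * a) * (b * b) := by group
      _ = b * a := by rw [e2, e3, one_mul, mul_one]
  have e : v * (t * v * t) = 1 := by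
    apply hX _ (mul_mem hv hv') (mul_mem hw hw')
    rw [h.conj_mul, h.conj_conj]
    exact hcomm _ hv' _ hv
  have e1 : t * v * t = v := by
    have e2 := h.sq k hk v hv
    exact mul_left_cancel (e.trans e2.symm)
  exact hX v hv hw e1

theorem card_succ [Finite G] (h : Dbl t V X n) {k : ℕ} (hk : k < n) :
    Nat.card (W V (k + 1)) = Nat.card (W V k) * Nat.card (V k) := by
  rw [← Nat.card_prod]
  symm
  refine Nat.card_congr (Equiv.ofBijective (fun p : W V k × V k =>
    (⟨p.1 * p.2, mul_mem (W_mono V (Nat.le_succ k) p.1.2) (le_W V (Nat.lt_succ_self k) p.2.2)⟩ : W V (k + 1))) ⟨?_, ?_⟩)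
  · rintro ⟨⟨a, ha⟩, ⟨b, hb⟩⟩ ⟨⟨a', ha'⟩, ⟨b', hb'⟩⟩ e
    have e1 : a * b = a' * b' := congrArg Subtype.val e
    have e2 : b * b'⁻¹ = a⁻¹ * a' := by
      rw [eq_inv_mul_iff_mul_eq, ← mul_assoc, e1, mul_inv_cancel_right]
    have e3 : b * b'⁻¹ = 1 := h.disj hk (mul_mem hb (inv_mem hb')) (by rw [e2]; exact mul_mem (inv_mem ha) ha')
    have e4 : b = b' := mul_inv_eq_one.1 e3
    have e5 : a = a' := by
      rw [e4] at e1
      exact mul_right_cancel e1
    subst e4
    subst e5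
    rfl
  · rintro ⟨w, hw⟩
    obtain ⟨u, hu, v, hv, e⟩ := h.mem_succ hk hw
    exact ⟨⟨⟨u, hu⟩, ⟨v, hv⟩⟩, Subtype.ext e.symm⟩

theorem card_W [Finite G] (h : Dbl t V X n) {c : ℕ} (hc : ∀ i < n, Nat.card (V i) = c) :
    ∀ k ≤ n, Nat.card (W V k) = c ^ k := by
  intro k
  induction k with
  | zero =>
    intro _
    rw [W_zero]
    simp
  | succ k ih =>
    intro hk
    rw [h.card_succ hk, ih (Nat.le_of_succ_le hk), hc k hk, pow_succ]

/-- A fixed term. -/
theorem card_fixed [Finite G] (h : Dbl t V X n) {f : G} {k : ℕ} (hk : k < n) (hf : ∀ v ∈ V k, v * f = f * v) :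
    Nat.card (W V k ⊓ Subgroup.centralizer {f} : Subgroup G) * Nat.card (V k) ≤
      Nat.card (W V (k + 1) ⊓ Subgroup.centralizer {f} : Subgroup G) := by
  refine card_mul_le (inf_le_inf_right _ (W_mono V (Nat.le_succ k))) ?_ fun b hb hb' => h.disj hk hb hb'.1
  exact le_inf (le_W V (Nat.lt_succ_self k)) fun v hv => Subgroup.mem_centralizer_singleton_iff.2 (hf v hv)

/-- A pair of terms. -/
theorem card_pair [Finite G] (h : Dbl t V X n) {f a b : G} {k : ℕ} (hk : k + 1 < n) (ha : a ∈ V k) (hb : b ∈ V (k + 1))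
    (hb1 : b ≠ 1) (hab : (a * b) * (a * b) = 1) (hf : a * b * f = f * (a * b)) :
    Nat.card (W V k ⊓ Subgroup.centralizer {f} : Subgroup G) * 2 ≤
      Nat.card (W V (k + 2) ⊓ Subgroup.centralizer {f} : Subgroup G) := by
  have hk' : k < n := Nat.lt_of_succ_lt hk
  have hnot : a * b ∉ W V k := fun hw => hb1 (h.disj hk hb (by
    have h1 := mul_mem (inv_mem (le_W V (Nat.lt_succ_self k) ha)) (W_mono V (Nat.le_succ k) hw)
    rwa [inv_mul_cancel_left] at h1))
  have hne : a * b ≠ 1 := fun e => hnot (by rw [e]; exact one_mem _)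
  have hc : Nat.card (Subgroup.zpowers (a * b)) = 2 := by
    rw [Nat.card_zpowers]
    exact orderOf_eq_prime (by rw [pow_two]; exact hab) hne
  have key : Nat.card (W V k ⊓ Subgroup.centralizer {f} : Subgroup G) * Nat.card (Subgroup.zpowers (a * b)) ≤
      Nat.card (W V (k + 2) ⊓ Subgroup.centralizer {f} : Subgroup G) := ?_
  · rw [hc] at key
    exact key
  refine card_mul_le (inf_le_inf_right _ (W_mono V (Nat.le_add_right k 2))) ?_ fun w hw hw' => ?_
  · rw [Subgroup.zpowers_le]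
    refine ⟨mul_mem (le_W V (by omega) ha) (le_W V (by omega) hb), Subgroup.mem_centralizer_singleton_iff.2 hf⟩
  · obtain ⟨j, rfl⟩ := hw
    have h2 : (a * b) ^ (2 : ℤ) = 1 := by rw [zpow_ofNat, pow_two]; exact hab
    rcases Int.even_or_odd' j with ⟨m, rfl | rfl⟩
    · show (a * b) ^ (2 * m) = 1
      rw [zpow_mul, h2, one_zpow]
    · exfalso
      have h3 : (a * b) ^ (2 * m + 1) ∈ W V k := hw'.1
      rw [zpow_add, zpow_mul, h2, one_zpow, one_mul, zpow_one] at h3
      exact hnot h3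

end Dbl

end Cfsg.Agent.Doubling.Growth
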