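import Cfsg.Agent.OddHalf.SL.Bridge

/-!
# Relations between doubled root elements, simply laced case over the field with two elements

`t` is an involution, `L` a group centralised by `t`, `x r` (`r ∈ Φ`) root elements of `L` with the relations of a
simply laced root system over the field with two elements, and `y r` involutions with `t ^ (y r) = t x_r` which
centralise `C_L(x_r)`. If the double centralisers in `C_G(t)` of two root elements are as small as possible, then the
four-groups `⟨x_r, y_r⟩` satisfy the commutator relations of the root system.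
-/

set_option autoImplicit false
set_option linter.unusedSectionVars false

namespace Cfsg.Agent.Doubling.Rel

open Cfsg.Agent.OddHalf.SL.Defs (Roots Dbl)

variable {G E : Type*} [Group G] [AddCommGroup E]

/-- The combinatorial facts about the root system which are used. -/
structure Root (ip : E → E → ℤ) (Φ : Set E) : Prop where
  base : Roots ip Φ
  rank : ∀ r ∈ Φ, ∀ s ∈ Φ, ip r s = -1 → ∃ u ∈ Φ, ip r u = -1 ∧ ip u s = 1
  orth : ∀ r ∈ Φ, ∀ s ∈ Φ, ip r s = 0 → ∃ m ∈ Φ, ip m s = -1 ∧ ip m r = 1

namespace Root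

variable {ip : E → E → ℤ} {Φ : Set E}

/-- The form in which the hypotheses appear in `SL.Defs`. -/
theorem of_roots (h : Roots ip Φ) (three : ∀ r ∈ Φ, ∀ s ∈ Φ, ip r s = 1 → ∃ m ∈ Φ, ip m r = 1 ∧ ip m s = 1)
    (orth : ∀ r ∈ Φ, ∀ s ∈ Φ, ip r s = 0 → ∃ a ∈ Φ, ip a r = 1 ∧ ip a s = -1) : Root ip Φ where
  base := h
  rank := fun r hr s hs hrs => by
    obtain ⟨m, hm, h1, h2⟩ := three (-r) (h.neg_mem r hr) s hs (by rw [h.neg_left, hrs]; norm_num)
    rw [h.neg_right, h.symm] at h1
    exact ⟨m, hm, by omega, h2⟩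
  orth := fun r hr s hs hrs => by
    obtain ⟨a, ha, h1, h2⟩ := orth r hr s hs hrs
    exact ⟨a, ha, h2, h1⟩

theorem symm (R : Root ip Φ) (a b : E) : ip a b = ip b a := R.base.symm a b

theorem add_left (R : Root ip Φ) (a b c : E) : ip (a + b) c = ip a c + ip b c := R.base.add_left a b c

theorem two (R : Root ip Φ) (r : E) (hr : r ∈ Φ) : ip r r = 2 := R.base.two r hr

theorem add_mem (R : Root ip Φ) (r : E) (hr : r ∈ Φ) (s : E) (hs : s ∈ Φ) (h : ip r s = -1) : r + s ∈ Φ :=
  R.base.add r hr s hs h

theorem sub_mem (R : Root ip Φ) (r : E) (hr : r ∈ Φ) (s : E) (hs : s ∈ Φ) (h : ip r s = 1) : s - r ∈ Φ :=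
  R.base.sub_mem hs hr (by rw [R.symm, h])

theorem add_right (R : Root ip Φ) (a b c : E) : ip a (b + c) = ip a b + ip a c := R.base.add_right a b c

theorem sub_left (R : Root ip Φ) (a b c : E) : ip (a - b) c = ip a c - ip b c := R.base.sub_left a b c

theorem sub_right (R : Root ip Φ) (a b c : E) : ip a (b - c) = ip a b - ip a c := R.base.sub_right a b c

end Root

/-- The group theoretic data. -/
structure Data (ip : E → E → ℤ) (Φ : Set E) (t : G) (L : Subgroup G) (x y : E → G) : Prop where
  tt : t * t = 1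
  tL : ∀ g ∈ L, t * g = g * t
  t_notMem : t ∉ L
  xL : ∀ r ∈ Φ, x r ∈ L
  x_ne : ∀ r ∈ Φ, x r ≠ 1
  x_sq : ∀ r ∈ Φ, x r * x r = 1
  x_comm : ∀ r ∈ Φ, ∀ s ∈ Φ, 0 ≤ ip r s → x r * x s = x s * x r
  x_conj : ∀ r ∈ Φ, ∀ s ∈ Φ, ip r s = -1 → x s * x r * x s = x r * x (r + s)
  y_sq : ∀ r ∈ Φ, y r * y r = 1
  ty : ∀ r ∈ Φ, y r * t * y r = t * x r
  yC : ∀ r ∈ Φ, ∀ g ∈ L, g * x r = x r * g → g * y r = y r * g
  dc : ∀ r ∈ Φ, ∀ s ∈ Φ, (ip r s = 0 ∨ ip r s = 1) → ∀ g, g * t = t * g →
    (∀ h ∈ L, h * x r = x r * h → h * x s = x s * h → g * h = h * g) →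
    ∃ τ α β, (τ = 1 ∨ τ = t) ∧ (α = 1 ∨ α = x r) ∧ (β = 1 ∨ β = x s) ∧ g = τ * α * β
  dc' : ∀ r ∈ Φ, ∀ s ∈ Φ, ip r s = -1 → ∀ g, g * t = t * g →
    (∀ h ∈ L, h * x r = x r * h → h * x s = x s * h → g * h = h * g) →
    ∃ τ α β γ, (τ = 1 ∨ τ = t) ∧ (α = 1 ∨ α = x r) ∧ (β = 1 ∨ β = x s) ∧ (γ = 1 ∨ γ = x (r + s)) ∧ g = τ * α * β * γ

namespace Data

variable {ip : E → E → ℤ} {Φ : Set E} {t : G} {L : Subgroup G} {x y : E → G}

theorem yx (D : Data ip Φ t L x y) {r s : E} (hr : r ∈ Φ) (hs : s ∈ Φ) (h : 0 ≤ ip r s) :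
    x s * y r = y r * x s :=
  D.yC r hr _ (D.xL s hs) (D.x_comm r hr s hs h).symm

theorem tx (D : Data ip Φ t L x y) {r : E} (hr : r ∈ Φ) : t * x r = x r * t := D.tL _ (D.xL r hr)

/-- `t` moves `y r` to `y r x_r`. -/
theorem tyt (D : Data ip Φ t L x y) (R : Root ip Φ) {r : E} (hr : r ∈ Φ) : t * y r * t = y r * x r := by
  have h1 : t * y r * t * y r = x r := by
    calc t * y r * t * y r = t * (y r * t * y r) := by group
      _ = (t * t) * x r := by rw [D.ty r hr]; group
      _ = x r := by rw [D.tt, one_mul]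
  have h2 := D.yx hr hr (by rw [R.two r hr]; norm_num)
  calc t * y r * t = t * y r * t * (y r * y r) := by rw [D.y_sq r hr, mul_one]
    _ = (t * y r * t * y r) * y r := by group
    _ = y r * x r := by rw [h1, h2]

/-- Lemma A: the conjugate of `y r` under `x s` for a special pair. -/
theorem lemA (D : Data ip Φ t L x y) (R : Root ip Φ) {r s : E} (hr : r ∈ Φ) (hs : s ∈ Φ) (h : ip r s = -1) :
    ∃ τ κ, (τ = 1 ∨ τ = t) ∧ (κ = 1 ∨ κ = x (r + s)) ∧ x s * y r * x s = y (r + s) * y r * τ * κ := by
  have hq := R.add_mem r hr s hs h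
  set q := r + s with hqdef
  have hrr := R.two r hr
  have hss := R.two s hs
  have hrq : ip r q = 1 := by rw [hqdef, R.add_right, hrr, h]; norm_num
  have hqr : ip q r = 1 := by rw [R.symm, hrq]
  have hsq : ip s q = 1 := by rw [hqdef, R.add_right, R.symm s r, hss, h]; norm_num
  have hqs : ip q s = 1 := by rw [R.symm, hsq]
  have hqq := R.two q hq
  set y' := x s * y r * x s with hy'
  -- elementary commutations
  have c1 : x r * y q = y q * x r := D.yx hq hr (by rw [hqr]; norm_num)
  have c2 : x q * y r = y r * x q := D.yx hr hq (by rw [hrq]; norm_num)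
  have c3 : x q * y q = y q * x q := D.yx hq hq (by rw [hqq]; norm_num)
  have c4 : x r * y r = y r * x r := D.yx hr hr (by rw [hrr]; norm_num)
  have c5 : x r * x q = x q * x r := D.x_comm r hr q hq (by rw [hrq]; norm_num)
  have c6 : x s * y q = y q * x s := D.yx hq hs (by rw [hqs]; norm_num)
  have c7 : x s * x q = x q * x s := D.x_comm s hs q hq (by rw [hsq]; norm_num)
  have hxs := D.x_sq s hs
  have hxr := D.x_sq r hr
  have hxq := D.x_sq q hq
  have hyr := D.y_sq r hr
  have hyq := D.y_sq q hq
  have hxc := D.x_conj r hr s hs h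
  rw [← hqdef] at hxc
  have hy'sq : y' * y' = 1 := by
    calc y' * y' = x s * y r * (x s * x s) * y r * x s := by rw [hy']; group
      _ = x s * (y r * y r) * x s := by rw [hxs]; group
      _ = 1 := by rw [hyr, mul_one, hxs]
  -- `t` and `y'`
  have hty' : t * y' * t = y' * (x r * x q) := by
    have e1 : t * y' * t = x s * (t * y r * t) * x s := by
      have e2 := D.tx hs
      calc t * y' * t = (t * x s) * y r * (x s * t) := by rw [hy']; group
        _ = (x s * t) * y r * (t * x s) := by rw [e2]
        _ = x s * (t * y r * t) * x s := by group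
    rw [e1, D.tyt R hr]
    calc x s * (y r * x r) * x s = x s * y r * 1 * x r * x s := by group
      _ = x s * y r * (x s * x s) * x r * x s := by rw [hxs]
      _ = y' * (x s * x r * x s) := by rw [hy']; group
      _ = y' * (x r * x q) := by rw [hxc]
  have hy'c : (x r * x q) * y' = y' * (x r * x q) := by
    rw [← hxc, hy']
    calc x s * x r * x s * (x s * y r * x s) = x s * x r * (x s * x s) * y r * x s := by group
      _ = x s * (x r * y r) * x s := by rw [hxs]; group
      _ = x s * (y r * x r) * x s := by rw [c4]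
      _ = x s * y r * 1 * x r * x s := by group
      _ = x s * y r * (x s * x s) * x r * x s := by rw [hxs]
      _ = x s * y r * x s * (x s * x r * x s) := by group
  set mm := y r * y q * y' with hmm
  -- `mm` centralises `t`
  have hmt : t * mm * t = mm := by
    calc t * mm * t = t * y r * 1 * y q * 1 * y' * t := by rw [hmm]; group
      _ = t * y r * (t * t) * y q * (t * t) * y' * t := by rw [D.tt]
      _ = (t * y r * t) * (t * y q * t) * (t * y' * t) := by group
      _ = (y r * x r) * (y q * x q) * (y' * (x r * x q)) := by rw [D.tyt R hr, D.tyt R hq, hty']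
      _ = y r * (x r * y q) * x q * (y' * (x r * x q)) := by group
      _ = y r * (y q * x r) * x q * ((x r * x q) * y') := by rw [c1, hy'c]
      _ = y r * y q * ((x r * x q) * (x r * x q)) * y' := by group
      _ = y r * y q * ((x r * x q) * (x q * x r)) * y' := by rw [c5]
      _ = y r * y q * (x r * (x q * x q) * x r) * y' := by group
      _ = mm := by rw [hxq, mul_one, hxr, mul_one]
  have hmt' : mm * t = t * mm := by
    calc mm * t = (t * t) * mm * t := by rw [D.tt, one_mul]
      _ = t * (t * mm * t) := by group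
      _ = t * mm := by rw [hmt]
  have hmL : ∀ k ∈ L, k * x r = x r * k → k * x q = x q * k → mm * k = k * mm := by
    intro k hk h1 h2
    have e1 := D.yC r hr k hk h1
    have e2 := D.yC q hq k hk h2
    have e3 : (x s * k * x s) * y r = y r * (x s * k * x s) := by
      apply D.yC r hr _ (mul_mem (mul_mem (D.xL s hs) hk) (D.xL s hs))
      have e4 : k * (x r * x q) = (x r * x q) * k := by
        rw [← mul_assoc, h1, mul_assoc, h2, ← mul_assoc]
      rw [← hxc] at e4
      calc x s * k * x s * x r = x s * k * (x s * x r * 1) := by group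
        _ = x s * k * (x s * x r * (x s * x s)) := by rw [hxs]
        _ = x s * (k * (x s * x r * x s)) * x s := by group
        _ = x s * ((x s * x r * x s) * k) * x s := by rw [e4]
        _ = (x s * x s) * x r * (x s * k * x s) := by group
        _ = x r * (x s * k * x s) := by rw [hxs, one_mul]
    have e5 : y' * k = k * y' := by
      calc y' * k = x s * y r * x s * k * 1 := by rw [hy']; group
        _ = x s * y r * x s * k * (x s * x s) := by rw [hxs]
        _ = x s * (y r * (x s * k * x s)) * x s := by group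
        _ = x s * ((x s * k * x s) * y r) * x s := by rw [e3]
        _ = (x s * x s) * k * (x s * y r * x s) := by group
        _ = k * y' := by rw [hxs, one_mul]
    calc mm * k = y r * y q * (y' * k) := by rw [hmm]; group
      _ = y r * (y q * k) * y' := by rw [e5]; group
      _ = (y r * k) * y q * y' := by rw [← e2]; group
      _ = k * mm := by rw [← e1, hmm]; group
  obtain ⟨τ, α, β, hτ, hα, hβ, hm⟩ := D.dc r hr q hq (Or.inr hrq) mm hmt' hmL
  have hy'e : y' = y q * y r * mm := by
    calc y' = y q * 1 * y q * y' := by rw [mul_one, hyq, one_mul]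
      _ = y q * (y r * y r) * y q * y' := by rw [hyr]
      _ = y q * y r * mm := by rw [hmm]; group
  rcases hα with rfl | rfl
  · exact ⟨τ, β, hτ, hβ, by rw [hy'e, hm]; group⟩
  · exfalso
    -- conjugate by `x s`
    have k1 : τ * β * (τ * β) = 1 := by
      have e1 : t * x q = x q * t := D.tx hq
      have e2 : τ * τ = 1 := by rcases hτ with h | h <;> rw [h]; exacts [mul_one 1, D.tt]
      have e3 : β * β = 1 := by rcases hβ with h | h <;> rw [h]; exacts [mul_one 1, hxq]
      have e4 : β * τ = τ * β := by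
        rcases hτ with h | h <;> rcases hβ with h' | h' <;> rw [h, h']
        · rw [mul_one, one_mul]
        · rw [mul_one, one_mul]
        · exact e1.symm
      calc τ * β * (τ * β) = τ * (β * τ) * β := by group
        _ = (τ * τ) * (β * β) := by rw [e4]; group
        _ = 1 := by rw [e2, e3, one_mul]
    have kc : ∀ z : G, t * z = z * t → z * x q = x q * z → z * (τ * β) = τ * β * z := by
      intro z h1 h2
      have e1 : z * τ = τ * z := by
        rcases hτ with h | h <;> rw [h]
        · rw [mul_one, one_mul]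
        · exact h1.symm
      have e2 : z * β = β * z := by
        rcases hβ with h | h <;> rw [h]
        · rw [mul_one, one_mul]
        · exact h2
      rw [← mul_assoc, e1, mul_assoc, e2, ← mul_assoc]
    have k2 := kc _ (D.tx hs) c7
    have k3 := kc _ (D.tx hr) c5
    have hm' : mm = τ * β * x r := by
      have e1 : x r * β = β * x r := by
        rcases hβ with h | h <;> rw [h]
        · rw [mul_one, one_mul]
        · exact c5
      rw [hm, mul_assoc, e1, ← mul_assoc]
    have e1 : y r = y q * y' * (τ * β) * (x r * x q) := by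
      calc y r = (x s * x s) * y r * (x s * x s) := by rw [hxs, one_mul, mul_one]
        _ = x s * y' * x s := by rw [hy']; group
        _ = x s * (y q * y r * (τ * β * x r)) * x s := by rw [← hm', ← hy'e]
        _ = (x s * y q) * y r * (τ * β) * x r * x s := by group
        _ = (y q * x s) * y r * (1 * (τ * β)) * x r * x s := by rw [c6, one_mul]
        _ = (y q * x s) * y r * ((x s * x s) * (τ * β)) * x r * x s := by rw [hxs]
        _ = y q * (x s * y r * x s) * (x s * (τ * β)) * x r * x s := by group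
        _ = y q * (x s * y r * x s) * (τ * β * x s) * x r * x s := by rw [k2]
        _ = y q * y' * (τ * β) * (x s * x r * x s) := by rw [hy']; group
        _ = y q * y' * (τ * β) * (x r * x q) := by rw [hxc]
    have e2 : y r = y r * x q := by
      calc y r = y q * (y q * y r * (τ * β * x r)) * (τ * β) * (x r * x q) := by rw [← hm', ← hy'e]; exact e1
        _ = (y q * y q) * y r * (τ * β) * (x r * (τ * β)) * (x r * x q) := by group
        _ = y r * (τ * β) * ((τ * β) * x r) * (x r * x q) := by rw [hyq, one_mul, k3]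
        _ = y r * (τ * β * (τ * β)) * (x r * x r) * x q := by group
        _ = y r * x q := by rw [k1, hxr, mul_one, mul_one]
    exact D.x_ne q hq (mul_eq_left.1 e2.symm)

/-- Lemma B: no factor `t`. -/
theorem lemB (D : Data ip Φ t L x y) (R : Root ip Φ) {r s u : E} (hr : r ∈ Φ) (hs : s ∈ Φ) (hu : u ∈ Φ)
    (h1 : ip r s = -1) (h2 : ip r u = -1) (h3 : ip s u = 1) :
    ∃ κ, (κ = 1 ∨ κ = x (r + u)) ∧ x u * y r * x u = y (r + u) * y r * κ := by
  have hq := R.add_mem r hr s hs h1
  have hq' := R.add_mem r hr u hu h2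
  have hd := R.sub_mem s hs u hu h3
  have hrr := R.two r hr
  have hss := R.two s hs
  have huu := R.two u hu
  have hsr : ip s r = -1 := by rw [R.symm, h1]
  have hur : ip u r = -1 := by rw [R.symm, h2]
  have hus : ip u s = 1 := by rw [R.symm, h3]
  have e_add : r + s + (u - s) = r + u := by abel
  have e_add' : s + (u - s) = u := by abel
  have i_sd : ip s (u - s) = -1 := by rw [R.sub_right, h3, hss]; norm_num
  have i_rd : ip r (u - s) = 0 := by rw [R.sub_right, h1, h2]; norm_num
  have i_qd : ip (r + s) (u - s) = -1 := by rw [R.add_left, i_rd, i_sd]; norm_num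
  obtain ⟨τ1, κ1, hτ1, hκ1, a1⟩ := D.lemA R hr hs h1
  obtain ⟨τ2, κ2, hτ2, hκ2, a2⟩ := D.lemA R hr hu h2
  obtain ⟨τ3, κ3, hτ3, hκ3, a3⟩ := D.lemA R hq hd i_qd
  rw [e_add] at hκ3 a3
  rcases hτ2 with hτ2 | hτ2
  · exact ⟨κ2, hκ2, by rw [a2, hτ2, mul_one]⟩
  exfalso
  have xd := D.x_conj s hs (u - s) hd i_sd
  rw [e_add'] at xd
  have xq := D.x_conj (r + s) hq (u - s) hd i_qd
  rw [e_add] at xq
  have xr := D.x_conj r hr s hs h1
  -- inner products
  have i_uq : ip u (r + s) = 0 := by rw [R.add_right, hur, hus]; norm_num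
  have i_sq : ip s (r + s) = 1 := by rw [R.add_right, hsr, hss]; norm_num
  have i_sq' : ip s (r + u) = 0 := by rw [R.add_right, hsr, h3]; norm_num
  have i_rq' : ip r (r + u) = 1 := by rw [R.add_right, hrr, h2]; norm_num
  have i_qq' : ip (r + s) (r + u) = 1 := by rw [R.add_left, i_rq', i_sq']; norm_num
  have i_rq : ip r (r + s) = 1 := by rw [R.add_right, hrr, h1]; norm_num
  have i_qq := R.two _ hq
  have i_q'q' := R.two _ hq'
  set q := r + s with hqdef
  set q' := r + u with hq'def
  set d := u - s with hddef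
  -- commutations
  have c_uyq : x u * y q = y q * x u := D.yx hq hu (by rw [R.symm, i_uq])
  have c_uxq : x u * x q = x q * x u := D.x_comm u hu q hq (by rw [i_uq])
  have c_sx : x s * x u = x u * x s := D.x_comm s hs u hu (by rw [h3]; norm_num)
  have c_dyr : x d * y r = y r * x d := D.yx hr hd (by rw [i_rd])
  have c_q'yr : x q' * y r = y r * x q' := D.yx hr hq' (by rw [i_rq']; norm_num)
  have c_q'yq : x q' * y q = y q * x q' := D.yx hq hq' (by rw [i_qq']; norm_num)
  have c_q'yq' : x q' * y q' = y q' * x q' := D.yx hq' hq' (by rw [i_q'q']; norm_num)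
  have c_sxq : x s * x q = x q * x s := D.x_comm s hs q hq (by rw [i_sq]; norm_num)
  have c_sxq' : x s * x q' = x q' * x s := D.x_comm s hs q' hq' (by rw [i_sq'])
  have c_qq' : x q * x q' = x q' * x q := D.x_comm q hq q' hq' (by rw [i_qq']; norm_num)
  have sr := D.x_sq r hr
  have ss := D.x_sq s hs
  have su := D.x_sq u hu
  have sd := D.x_sq d hd
  have sq := D.x_sq q hq
  have sq' := D.x_sq q' hq'
  have yr := D.y_sq r hr
  have yq := D.y_sq q hq
  have yq' := D.y_sq q' hq'
  have tu := D.tx hu
  have td := D.tx hd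
  have tq := D.tx hq
  have tq' := D.tx hq'
  -- first computation
  have f1 : x u * (x s * y r * x s) * x u = y q * (y q' * y r * τ2 * κ2) * (τ1 * κ1) := by
    have e1 : (τ1 * κ1) * x u = x u * (τ1 * κ1) := by
      have e2 : τ1 * x u = x u * τ1 := by
        rcases hτ1 with h | h <;> rw [h]
        · rw [mul_one, one_mul]
        · exact tu
      have e3 : κ1 * x u = x u * κ1 := by
        rcases hκ1 with h | h <;> rw [h]
        · rw [mul_one, one_mul]
        · exact c_uxq.symm
      rw [mul_assoc, e3, ← mul_assoc, e2, mul_assoc]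
    rw [a1, ← a2]
    calc x u * (y q * y r * τ1 * κ1) * x u = (x u * y q) * y r * ((τ1 * κ1) * x u) := by group
      _ = (y q * x u) * y r * (x u * (τ1 * κ1)) := by rw [c_uyq, e1]
      _ = y q * (x u * y r * x u) * (τ1 * κ1) := by group
  -- second computation
  have f2 : x u * (x s * y r * x s) * x u = (y q' * y q * τ3 * κ3) * y r * τ1 * (x d * κ1 * x d) := by
    have e0 : x d * τ1 = τ1 * x d := by
      rcases hτ1 with h | h <;> rw [h]
      · rw [mul_one, one_mul]
      · exact td.symm
    have e1 : x u * x s = x d * x s * x d := by rw [xd, c_sx]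
    have e2 : x s * x u = x d * x s * x d := xd.symm
    calc x u * (x s * y r * x s) * x u = (x u * x s) * y r * (x s * x u) := by group
      _ = (x d * x s * x d) * y r * (x d * x s * x d) := by rw [e1, e2]
      _ = x d * x s * (x d * y r) * x d * x s * x d := by group
      _ = x d * x s * (y r * x d) * x d * x s * x d := by rw [c_dyr]
      _ = x d * x s * y r * (x d * x d) * x s * x d := by group
      _ = x d * (x s * y r * x s) * x d := by rw [sd]; group
      _ = x d * (y q * y r * τ1 * κ1) * x d := by rw [a1]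
      _ = x d * y q * 1 * y r * τ1 * κ1 * x d := by group
      _ = x d * y q * (x d * x d) * y r * τ1 * κ1 * x d := by rw [sd]
      _ = (x d * y q * x d) * (x d * y r) * τ1 * κ1 * x d := by group
      _ = (y q' * y q * τ3 * κ3) * (y r * x d) * τ1 * κ1 * x d := by rw [a3, c_dyr]
      _ = (y q' * y q * τ3 * κ3) * y r * (x d * τ1) * κ1 * x d := by group
      _ = (y q' * y q * τ3 * κ3) * y r * τ1 * (x d * κ1 * x d) := by rw [e0]; group
  -- `x d κ1 x d = λ κ1`
  obtain ⟨lam, hlam, hl⟩ : ∃ lam, (lam = 1 ∨ lam = x q') ∧ x d * κ1 * x d = lam * κ1 := by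
    rcases hκ1 with h | h
    · exact ⟨1, Or.inl rfl, by rw [h, mul_one, sd, mul_one]⟩
    · exact ⟨x q', Or.inr rfl, by rw [h, xq, c_qq']⟩
  -- the subgroup of `L` of elements commuting with `x s`
  let Z : Subgroup G := L ⊓ Subgroup.centralizer {x s}
  have hZ : ∀ {g}, g ∈ Z ↔ g ∈ L ∧ g * x s = x s * g := fun {g} => by
    rw [Subgroup.mem_inf, Subgroup.mem_centralizer_singleton_iff]
  have zq : x q ∈ Z := hZ.2 ⟨D.xL q hq, c_sxq.symm⟩
  have zq' : x q' ∈ Z := hZ.2 ⟨D.xL q' hq', c_sxq'.symm⟩
  have zz : ∀ {k : G}, k = 1 ∨ k = x q' → k ∈ Z := fun {k} h => by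
    rcases h with h | h <;> rw [h]
    · exact one_mem _
    · exact zq'
  have ck : ∀ {k : G}, k = 1 ∨ k = x q' → k * y r = y r * k := fun {k} h => by
    rcases h with h | h <;> rw [h]
    · rw [mul_one, one_mul]
    · exact c_q'yr
  have ck' : ∀ {k : G}, k = 1 ∨ k = x q' → k * (y q' * y q) = (y q' * y q) * k := fun {k} h => by
    rcases h with h | h <;> rw [h]
    · rw [mul_one, one_mul]
    · rw [← mul_assoc, c_q'yq', mul_assoc, c_q'yq, ← mul_assoc]
  have ckt : ∀ {k τ : G}, k = 1 ∨ k = x q' → τ = 1 ∨ τ = t → k * τ = τ * k := fun {k τ} h h' => by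
    rcases h with h | h <;> rcases h' with h' | h' <;> rw [h, h']
    · rw [mul_one, one_mul]
    · rw [mul_one, one_mul]
    · exact tq'.symm
  have ksq : ∀ {k : G}, k = 1 ∨ k = x q' → k * k = 1 := fun {k} h => by
    rcases h with h | h <;> rw [h]
    · rw [mul_one]
    · exact sq'
  set P := y q' * y q with hP
  have hPinv : P⁻¹ = y q * y q' := by
    rw [hP, mul_inv_rev, inv_eq_of_mul_eq_one_left yq, inv_eq_of_mul_eq_one_left yq']
  -- the relation
  have g1 : P⁻¹ * (t * x r) * (κ2 * lam) = P * τ3 * κ3 := by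
    have e1 : y q * (y q' * y r * τ2 * κ2) * (τ1 * κ1) = (y q' * y q * τ3 * κ3) * y r * τ1 * (lam * κ1) := by
      rw [← f1, f2, hl]
    have e2 : y q * (y q' * y r * τ2 * κ2) * τ1 = (y q' * y q * τ3 * κ3) * y r * τ1 * lam := by
      apply mul_right_cancel (b := κ1)
      rw [← mul_assoc] at e1
      rw [e1]
      group
    have e3 : P⁻¹ * (y r * t * κ2) = P * τ3 * κ3 * y r * lam := by
      apply mul_right_cancel (b := τ1)
      calc P⁻¹ * (y r * t * κ2) * τ1 = y q * (y q' * y r * τ2 * κ2) * τ1 := by rw [hPinv, hτ2]; group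
        _ = P * τ3 * κ3 * y r * τ1 * lam := by rw [e2, hP]
        _ = P * τ3 * κ3 * y r * lam * τ1 := by rw [mul_assoc _ τ1 lam, ← ckt hlam hτ1, ← mul_assoc]
    calc P⁻¹ * (t * x r) * (κ2 * lam) = P⁻¹ * (y r * t * y r) * (κ2 * lam) := by rw [D.ty r hr]
      _ = P⁻¹ * (y r * t) * (y r * κ2) * lam := by group
      _ = P⁻¹ * (y r * t) * (κ2 * y r) * lam := by rw [ck hκ2]
      _ = (P⁻¹ * (y r * t * κ2)) * (y r * lam) := by group
      _ = (P * τ3 * κ3 * y r * lam) * (lam * y r) := by rw [e3, ck hlam]
      _ = P * τ3 * κ3 * y r * (lam * lam) * y r := by group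
      _ = P * τ3 * κ3 * (y r * y r) := by rw [ksq hlam]; group
      _ = P * τ3 * κ3 := by rw [yr, mul_one]
  -- the square
  have g2 : P * τ3 * (P * τ3) = 1 := by
    have e1 : (x d * y q * x d) * (x d * y q * x d) = 1 := by
      calc (x d * y q * x d) * (x d * y q * x d) = x d * y q * (x d * x d) * y q * x d := by group
        _ = x d * (y q * y q) * x d := by rw [sd]; group
        _ = 1 := by rw [yq, mul_one, sd]
    rw [a3] at e1
    have e2 : P * τ3 * κ3 * (P * τ3 * κ3) = P * τ3 * (P * τ3) * (κ3 * κ3) := by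
      calc P * τ3 * κ3 * (P * τ3 * κ3) = P * τ3 * (κ3 * P) * τ3 * κ3 := by group
        _ = P * τ3 * (P * κ3) * τ3 * κ3 := by rw [ck' hκ3]
        _ = P * τ3 * P * (κ3 * τ3) * κ3 := by group
        _ = P * τ3 * P * (τ3 * κ3) * κ3 := by rw [ckt hκ3 hτ3]
        _ = P * τ3 * (P * τ3) * (κ3 * κ3) := by group
    rw [e2, ksq hκ3, mul_one] at e1
    exact e1
  -- `P²`
  have g3 : P * P ∈ Z := by
    rcases hτ3 with h | h
    · rw [h, mul_one] at g2
      rw [g2]
      exact one_mem _
    · rw [h] at g2
      have e1 : t * P * t = P * (x q' * x q) := by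
        calc t * P * t = t * y q' * 1 * y q * t := by rw [hP]; group
          _ = t * y q' * (t * t) * y q * t := by rw [D.tt]
          _ = (t * y q' * t) * (t * y q * t) := by group
          _ = y q' * (x q' * y q) * x q := by rw [D.tyt R hq, D.tyt R hq']; group
          _ = P * (x q' * x q) := by rw [c_q'yq, hP]; group
      have e2 : P * P * (x q' * x q) = 1 := by
        rw [← g2]
        calc P * P * (x q' * x q) = P * (P * (x q' * x q)) := by group
          _ = P * (t * P * t) := by rw [e1]
          _ = P * t * (P * t) := by group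
      have e3 : P * P = (x q' * x q)⁻¹ := eq_inv_of_mul_eq_one_left e2
      rw [e3]
      exact inv_mem (mul_mem zq' zq)
  -- the contradiction
  have g4 : t * x r = P * P * τ3 * (κ3 * (κ2 * lam)⁻¹) := by
    calc t * x r = P * (P⁻¹ * (t * x r) * (κ2 * lam)) * (κ2 * lam)⁻¹ := by group
      _ = P * P * τ3 * (κ3 * (κ2 * lam)⁻¹) := by rw [g1]; group
  have zM : κ3 * (κ2 * lam)⁻¹ ∈ Z := mul_mem (zz hκ3) (inv_mem (mul_mem (zz hκ2) (zz hlam)))
  rcases hτ3 with h | h
  · rw [h, mul_one] at g4
    have e1 : t = P * P * (κ3 * (κ2 * lam)⁻¹) * (x r)⁻¹ := by rw [← g4]; group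
    exact D.t_notMem (by rw [e1]; exact mul_mem (mul_mem (hZ.1 g3).1 (hZ.1 zM).1) (inv_mem (D.xL r hr)))
  · rw [h, ← D.tL _ (hZ.1 g3).1, mul_assoc] at g4
    have e1 : x r = P * P * (κ3 * (κ2 * lam)⁻¹) := mul_left_cancel g4
    have e2 : x r ∈ Z := by rw [e1]; exact mul_mem g3 zM
    have e3 := (hZ.1 e2).2
    have e4 : x s * x r * x s = x r := by
      calc x s * x r * x s = (x r * x s) * x s := by rw [e3]
        _ = x r * (x s * x s) := by group
        _ = x r := by rw [ss, mul_one]
    rw [e4] at xr
    exact D.x_ne q hq (mul_eq_left.1 xr.symm)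

/-- Lemma A without a factor `t`. -/
theorem lemA' (D : Data ip Φ t L x y) (R : Root ip Φ) {r s : E} (hr : r ∈ Φ) (hs : s ∈ Φ) (h : ip r s = -1) :
    ∃ κ, (κ = 1 ∨ κ = x (r + s)) ∧ x s * y r * x s = y (r + s) * y r * κ := by
  obtain ⟨u, hu, h1, h2⟩ := R.rank r hr s hs h
  exact D.lemB R hr hu hs h1 h h2

/-- Collinear pairs commute. -/
theorem y_comm_one (D : Data ip Φ t L x y) (R : Root ip Φ) {a b : E} (ha : a ∈ Φ) (hb : b ∈ Φ) (h : ip a b = 1) :
    y a * y b = y b * y a := by
  have hd := R.sub_mem a ha b hb h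
  have i1 : ip a (b - a) = -1 := by rw [R.sub_right, h, R.two a ha]; norm_num
  obtain ⟨κ, hκ, e⟩ := D.lemA' R ha hd i1
  have e_add : a + (b - a) = b := by abel
  rw [e_add] at hκ e
  have sd := D.x_sq _ hd
  have ya := D.y_sq a ha
  have yb := D.y_sq b hb
  have cba : x b * y a = y a * x b := D.yx ha hb (by rw [h]; norm_num)
  have cbb : x b * y b = y b * x b := D.yx hb hb (by rw [R.two b hb]; norm_num)
  have e1 : (x (b - a) * y a * x (b - a)) * (x (b - a) * y a * x (b - a)) = 1 := by
    calc (x (b - a) * y a * x (b - a)) * (x (b - a) * y a * x (b - a))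
        = x (b - a) * y a * (x (b - a) * x (b - a)) * y a * x (b - a) := by group
      _ = x (b - a) * (y a * y a) * x (b - a) := by rw [sd]; group
      _ = 1 := by rw [ya, mul_one, sd]
  rw [e] at e1
  have ck : κ * (y b * y a) = (y b * y a) * κ := by
    rcases hκ with h | h <;> rw [h]
    · rw [mul_one, one_mul]
    · rw [← mul_assoc, cbb, mul_assoc, cba, ← mul_assoc]
  have ks : κ * κ = 1 := by
    rcases hκ with h | h <;> rw [h]
    · rw [mul_one]
    · exact D.x_sq b hb
  have e2 : (y b * y a) * (y b * y a) = 1 := by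
    calc (y b * y a) * (y b * y a) = (y b * y a) * (y b * y a) * (κ * κ) := by rw [ks, mul_one]
      _ = (y b * y a) * ((y b * y a) * κ) * κ := by group
      _ = (y b * y a) * (κ * (y b * y a)) * κ := by rw [ck]
      _ = y b * y a * κ * (y b * y a * κ) := by group
      _ = 1 := e1
  calc y a * y b = (y b * y a)⁻¹ := by
        rw [mul_inv_rev, inv_eq_of_mul_eq_one_left ya, inv_eq_of_mul_eq_one_left yb]
    _ = y b * y a := (eq_inv_of_mul_eq_one_left e2).symm

theorem y_mem (D : Data ip Φ t L x y) (R : Root ip Φ) {r : E} (hr : r ∈ Φ) : y r ∉ L := fun h => by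
  have h1 := D.tL _ h
  have h2 := D.tyt R hr
  rw [h1, mul_assoc, D.tt, mul_one] at h2
  exact D.x_ne r hr (mul_eq_left.1 h2.symm)

theorem yy_k (D : Data ip Φ t L x y) {r s : E} (hr : r ∈ Φ) (hs : s ∈ Φ) {k : G} (hk : k ∈ L)
    (h1 : k * x r = x r * k) (h2 : k * x s = x s * k) :
    (y r * y s * y r * y s) * k = k * (y r * y s * y r * y s) := by
  have e1 := D.yC r hr k hk h1
  have e2 := D.yC s hs k hk h2
  calc (y r * y s * y r * y s) * k = y r * y s * y r * (y s * k) := by group
    _ = y r * y s * (y r * k) * y s := by rw [← e2]; group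
    _ = y r * (y s * k) * y r * y s := by rw [← e1]; group
    _ = (y r * k) * y s * y r * y s := by rw [← e2]; group
    _ = k * (y r * y s * y r * y s) := by rw [← e1]; group

/-- The commutator of an orthogonal pair lies in both root groups. -/
theorem orth_half (D : Data ip Φ t L x y) (R : Root ip Φ) {r s : E} (hr : r ∈ Φ) (hs : s ∈ Φ) (h : ip r s = 0) :
    y r * y s * y r * y s = 1 ∨ y r * y s * y r * y s = x r := by
  have hsr : ip s r = 0 := by rw [R.symm, h]
  have c1 : x r * y s = y s * x r := D.yx hs hr (by rw [hsr])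
  have c2 : x s * y r = y r * x s := D.yx hr hs (by rw [h])
  have c3 : x r * y r = y r * x r := D.yx hr hr (by rw [R.two r hr]; norm_num)
  have c4 : x s * y s = y s * x s := D.yx hs hs (by rw [R.two s hs]; norm_num)
  have c5 : x r * x s = x s * x r := D.x_comm r hr s hs (by rw [h])
  have xr := D.x_sq r hr
  have xs := D.x_sq s hs
  have yr := D.y_sq r hr
  have ys := D.y_sq s hs
  have tt := D.tt
  have tr := D.tx hr
  have ts := D.tx hs
  set c := y r * y s * y r * y s with hc
  have ht1 : t * c * t = c := by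
    calc t * c * t = t * y r * 1 * y s * 1 * y r * 1 * y s * t := by rw [hc]; group
      _ = t * y r * (t * t) * y s * (t * t) * y r * (t * t) * y s * t := by rw [tt]
      _ = (t * y r * t) * (t * y s * t) * (t * y r * t) * (t * y s * t) := by group
      _ = (y r * x r) * (y s * x s) * (y r * x r) * (y s * x s) := by rw [D.tyt R hr, D.tyt R hs]
      _ = y r * (x r * y s) * (x s * y r) * (x r * y s) * x s := by group
      _ = y r * (y s * x r) * (y r * x s) * (y s * x r) * x s := by rw [c1, c2]
      _ = y r * y s * (x r * y r) * (x s * y s) * (x r * x s) := by group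
      _ = y r * y s * (y r * x r) * (y s * x s) * (x s * x r) := by rw [c3, c4, c5]
      _ = y r * y s * y r * (x r * y s) * (x s * x s) * x r := by group
      _ = y r * y s * y r * (y s * x r) * x r := by rw [c1, xs, mul_one]
      _ = y r * y s * y r * y s * (x r * x r) := by group
      _ = c := by rw [xr, mul_one]
  have hct : c * t = t * c := by
    calc c * t = (t * t) * c * t := by rw [tt, one_mul]
      _ = t * (t * c * t) := by group
      _ = t * c := by rw [ht1]
  obtain ⟨τ, α, β, hτ, hα, hβ, he⟩ := D.dc r hr s hs (Or.inl h) c hct fun k hk h1 h2 => D.yy_k hr hs hk h1 h2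
  have hci : c⁻¹ = y s * y r * y s * y r := by
    rw [hc, mul_inv_rev, mul_inv_rev, mul_inv_rev, inv_eq_of_mul_eq_one_left yr, inv_eq_of_mul_eq_one_left ys]
    group
  have hyc : y r * c * y r = c⁻¹ := by
    rw [hci]
    calc y r * c * y r = (y r * y r) * y s * y r * y s * y r := by rw [hc]; group
      _ = y s * y r * y s * y r := by rw [yr]; group
  -- no factor `t`
  have hcc : c * c = 1 := by
    have e1 : α * τ = τ * α := by
      rcases hτ with h | h <;> rcases hα with h' | h' <;> rw [h, h']
      · rw [mul_one, one_mul]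
      · rw [mul_one, one_mul]
      · exact tr.symm
    have e2 : β * τ = τ * β := by
      rcases hτ with h | h <;> rcases hβ with h' | h' <;> rw [h, h']
      · rw [mul_one, one_mul]
      · rw [mul_one, one_mul]
      · exact ts.symm
    have e3 : β * α = α * β := by
      rcases hα with h | h <;> rcases hβ with h' | h' <;> rw [h, h']
      · rw [mul_one, one_mul]
      · rw [mul_one, one_mul]
      · exact c5.symm
    have e4 : τ * τ = 1 := by rcases hτ with h | h <;> rw [h]; exacts [mul_one 1, tt]
    have e5 : α * α = 1 := by rcases hα with h | h <;> rw [h]; exacts [mul_one 1, xr]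
    have e6 : β * β = 1 := by rcases hβ with h | h <;> rw [h]; exacts [mul_one 1, xs]
    rw [he]
    calc τ * α * β * (τ * α * β) = τ * α * (β * τ) * α * β := by group
      _ = τ * α * (τ * β) * α * β := by rw [e2]
      _ = τ * (α * τ) * (β * α) * β := by group
      _ = τ * (τ * α) * (α * β) * β := by rw [e1, e3]
      _ = (τ * τ) * (α * α) * (β * β) := by group
      _ = 1 := by rw [e4, e5, e6, one_mul, one_mul]
  have hci' : c⁻¹ = c := inv_eq_of_mul_eq_one_left hcc
  rw [hci'] at hyc
  have cα : α * y r = y r * α := by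
    rcases hα with h | h <;> rw [h]
    · rw [mul_one, one_mul]
    · exact c3
  have cβ : β * y r = y r * β := by
    rcases hβ with h | h <;> rw [h]
    · rw [mul_one, one_mul]
    · exact c2
  have hyτ : y r * τ * y r = τ := by
    apply mul_right_cancel (b := α * β)
    calc y r * τ * y r * (α * β) = y r * τ * (y r * α) * β := by group
      _ = y r * τ * α * (y r * β) := by rw [← cα]; group
      _ = y r * (τ * α * β) * y r := by rw [← cβ]; group
      _ = τ * (α * β) := by rw [← he, hyc, he, mul_assoc]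
  have hτ1 : τ = 1 := by
    rcases hτ with h | h
    · exact h
    · exfalso
      rw [h, D.ty r hr] at hyτ
      exact D.x_ne r hr (mul_eq_left.1 hyτ)
  rw [hτ1, one_mul] at he
  -- conjugate with `x m`
  obtain ⟨m, hm, m1, m2⟩ := R.orth r hr s hs h
  have hsm : ip s m = -1 := by rw [R.symm, m1]
  have hrm : ip r m = 1 := by rw [R.symm, m2]
  have hq := R.add_mem s hs m hm hsm
  obtain ⟨κ, hκ, eκ⟩ := D.lemA' R hs hm hsm
  have i1 : ip r (s + m) = 1 := by rw [R.add_right, h, hrm]; norm_num
  have i1' : ip (s + m) r = 1 := by rw [R.symm, i1]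
  have i2 : ip s (s + m) = 1 := by rw [R.add_right, R.two s hs, hsm]; norm_num
  have i2' : ip (s + m) s = 1 := by rw [R.symm, i2]
  have xm := D.x_sq m hm
  have d1 : x m * y r = y r * x m := D.yx hr hm (by rw [hrm]; norm_num)
  have d2 : y r * y (s + m) = y (s + m) * y r := D.y_comm_one R hr hq i1
  have d3 : y s * y (s + m) = y (s + m) * y s := D.y_comm_one R hs hq i2
  have d4 : x m * x r = x r * x m := D.x_comm m hm r hr (by rw [m2]; norm_num)
  have yq := D.y_sq _ hq
  have dκr : κ * y r = y r * κ := by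
    rcases hκ with h | h <;> rw [h]
    · rw [mul_one, one_mul]
    · exact D.yx hr hq (by rw [i1]; norm_num)
  have dκs : κ * y s = y s * κ := by
    rcases hκ with h | h <;> rw [h]
    · rw [mul_one, one_mul]
    · exact D.yx hs hq (by rw [i2]; norm_num)
  have dκq : κ * y (s + m) = y (s + m) * κ := by
    rcases hκ with h | h <;> rw [h]
    · rw [mul_one, one_mul]
    · exact D.yx hq hq (by rw [R.two _ hq]; norm_num)
  have dκκ : κ * κ = 1 := by
    rcases hκ with h | h <;> rw [h]
    · rw [mul_one]
    · exact D.x_sq _ hq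
  have dz : ∀ z : G, z * y r = y r * z → z * y s = y s * z → z * c = c * z := by
    intro z h1 h2
    calc z * c = (z * y r) * y s * y r * y s := by rw [hc]; group
      _ = y r * (z * y s) * y r * y s := by rw [h1]; group
      _ = y r * y s * (z * y r) * y s := by rw [h2]; group
      _ = y r * y s * y r * (z * y s) := by rw [h1]; group
      _ = c * z := by rw [h2, hc]; group
  have hxc : x m * c * x m = c := by
    calc x m * c * x m = (x m * y r) * y s * y r * y s * x m := by rw [hc]; group
      _ = y r * x m * y s * 1 * y r * y s * x m := by rw [d1]; group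
      _ = y r * x m * y s * (x m * x m) * y r * y s * x m := by rw [xm]
      _ = y r * (x m * y s * x m) * (x m * y r) * y s * x m := by group
      _ = y r * (x m * y s * x m) * y r * (x m * y s * x m) := by rw [d1]; group
      _ = y r * (y (s + m) * y s * κ) * y r * (y (s + m) * y s * κ) := by rw [eκ]
      _ = (y r * y (s + m)) * y s * (κ * y r) * (y (s + m) * y s * κ) := by group
      _ = y (s + m) * y r * y s * (y r * κ) * (y (s + m) * y s * κ) := by rw [d2, dκr]
      _ = y (s + m) * y r * y s * y r * (κ * y (s + m)) * y s * κ := by group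
      _ = y (s + m) * y r * y s * (y r * y (s + m)) * (κ * y s) * κ := by rw [dκq]; group
      _ = y (s + m) * y r * (y s * y (s + m)) * y r * (y s * κ) * κ := by rw [d2, dκs]; group
      _ = y (s + m) * (y r * y (s + m)) * y s * y r * y s * (κ * κ) := by rw [d3]; group
      _ = (y (s + m) * y (s + m)) * (y r * y s * y r * y s) := by rw [d2, dκκ]; group
      _ = c := by rw [yq, one_mul]
  have dα : x m * α = α * x m := by
    rcases hα with h | h <;> rw [h]
    · rw [mul_one, one_mul]
    · exact d4
  rcases hβ with hβ | hβ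
  · rw [hβ, mul_one] at he
    rw [he]
    exact hα
  · exfalso
    rw [he, hβ] at hxc
    have e1 := D.x_conj s hs m hm hsm
    have e2 : α * x s * x (s + m) = α * x s := by
      calc α * x s * x (s + m) = α * (x m * x s * x m) := by rw [e1]; group
        _ = (α * x m) * x s * x m := by group
        _ = x m * (α * x s) * x m := by rw [← dα]; group
        _ = α * x s := hxc
    exact D.x_ne _ hq (mul_eq_left.1 e2)

/-- Orthogonal pairs commute. -/
theorem y_comm_zero (D : Data ip Φ t L x y) (R : Root ip Φ) {r s : E} (hr : r ∈ Φ) (hs : s ∈ Φ) (h : ip r s = 0) :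
    y r * y s = y s * y r := by
  have yr := D.y_sq r hr
  have ys := D.y_sq s hs
  have key : y r * y s * y r * y s = 1 := by
    rcases D.orth_half R hr hs h with h1 | h1
    · exact h1
    rcases D.orth_half R hs hr (by rw [R.symm, h]) with h2 | h2
    · have e1 : (y r * y s * y r * y s)⁻¹ = 1 := by
        rw [mul_inv_rev, mul_inv_rev, mul_inv_rev, inv_eq_of_mul_eq_one_left yr, inv_eq_of_mul_eq_one_left ys]
        rw [← h2]; group
      exact inv_eq_one.1 e1
    · exfalso
      have e1 : x s = x r := by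
        have e2 : (y r * y s * y r * y s)⁻¹ = x s := by
          rw [mul_inv_rev, mul_inv_rev, mul_inv_rev, inv_eq_of_mul_eq_one_left yr, inv_eq_of_mul_eq_one_left ys]
          rw [← h2]; group
        rw [← e2, h1, inv_eq_of_mul_eq_one_left (D.x_sq r hr)]
      obtain ⟨m, hm, m1, m2⟩ := R.orth r hr s hs h
      have hsm : ip s m = -1 := by rw [R.symm, m1]
      have e3 := D.x_conj s hs m hm hsm
      have e4 := D.x_comm m hm r hr (by rw [m2]; norm_num)
      rw [e1, e4, mul_assoc, D.x_sq m hm, mul_one] at e3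
      exact D.x_ne _ (R.add_mem s hs m hm hsm) (mul_eq_left.1 e3.symm)
  calc y r * y s = y r * y s * (y r * y r) := by rw [yr, mul_one]
    _ = y r * y s * y r * 1 * y r := by group
    _ = y r * y s * y r * (y s * y s) * y r := by rw [ys]
    _ = (y r * y s * y r * y s) * (y s * y r) := by group
    _ = y s * y r := by rw [key, one_mul]

/-- The commutator of a special pair. -/
theorem spec (D : Data ip Φ t L x y) (R : Root ip Φ) {r s : E} (hr : r ∈ Φ) (hs : s ∈ Φ) (h : ip r s = -1) :
    ∃ γ ε, (γ = 1 ∨ γ = x (r + s)) ∧ (ε = 1 ∨ ε = y (r + s)) ∧ y r * y s * y r * y s = γ * ε := by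
  have hq := R.add_mem r hr s hs h
  have hsr : ip s r = -1 := by rw [R.symm, h]
  obtain ⟨κ, hκ, e1⟩ := D.lemA' R hr hs h
  obtain ⟨κ', hκ', e2⟩ := D.lemA' R hs hr hsr
  rw [add_comm s r] at hκ' e2
  have i_rq : ip r (r + s) = 1 := by rw [R.add_right, R.two r hr, h]; norm_num
  have i_sq : ip s (r + s) = 1 := by rw [R.add_right, R.two s hs, hsr]; norm_num
  have i_qr : ip (r + s) r = 1 := by rw [R.symm, i_rq]
  have i_qs : ip (r + s) s = 1 := by rw [R.symm, i_sq]
  have i_qq := R.two _ hq
  have xc := D.x_conj r hr s hs h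
  set q := r + s with hqdef
  have xr := D.x_sq r hr
  have xs := D.x_sq s hs
  have xq := D.x_sq q hq
  have yr := D.y_sq r hr
  have ys := D.y_sq s hs
  have yq := D.y_sq q hq
  have tt := D.tt
  have tr := D.tx hr
  have ts := D.tx hs
  have tq := D.tx hq
  have a1 : x r * y q = y q * x r := D.yx hq hr (by rw [i_qr]; norm_num)
  have a2 : x s * y q = y q * x s := D.yx hq hs (by rw [i_qs]; norm_num)
  have a3 : x q * y q = y q * x q := D.yx hq hq (by rw [i_qq]; norm_num)
  have a4 : x q * y r = y r * x q := D.yx hr hq (by rw [i_rq]; norm_num)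
  have a5 : x q * y s = y s * x q := D.yx hs hq (by rw [i_sq]; norm_num)
  have a6 : x r * x q = x q * x r := D.x_comm r hr q hq (by rw [i_rq]; norm_num)
  have a7 : x s * x q = x q * x s := D.x_comm s hs q hq (by rw [i_sq]; norm_num)
  have a8 : x r * y r = y r * x r := D.yx hr hr (by rw [R.two r hr]; norm_num)
  have a9 : x s * y s = y s * x s := D.yx hs hs (by rw [R.two s hs]; norm_num)
  have b1 : y r * y q = y q * y r := D.y_comm_one R hr hq i_rq
  have b2 : y s * y q = y q * y s := D.y_comm_one R hs hq i_sq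
  -- elements of `{1, x q}`
  have kc : ∀ {k z : G}, (k = 1 ∨ k = x q) → x q * z = z * x q → k * z = z * k := fun {k z} h h' => by
    rcases h with h | h <;> rw [h]
    · rw [mul_one, one_mul]
    · exact h'
  have ks : ∀ {k : G}, (k = 1 ∨ k = x q) → k * k = 1 := fun {k} h => by
    rcases h with h | h <;> rw [h]
    · rw [mul_one]
    · exact xq
  have xqr : x q * x r = x r * x q := a6.symm
  have xqs : x q * x s = x s * x q := a7.symm
  -- the moves
  have m1 : x r * y s = y q * y s * κ' * x r := by rw [← e2, mul_assoc, xr, mul_one]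
  have m2 : x s * y r = y q * y r * κ * x s := by rw [← e1, mul_assoc, xs, mul_one]
  have m3 : y r * x s * y r = x s * (y q * κ) := by
    calc y r * x s * y r = (x s * x s) * y r * x s * y r := by rw [xs, one_mul]
      _ = x s * (x s * y r * x s) * y r := by group
      _ = x s * y q * y r * (κ * y r) := by rw [e1]; group
      _ = x s * y q * (y r * y r) * κ := by rw [kc hκ a4]; group
      _ = x s * (y q * κ) := by rw [yr]; group
  have m4 : y s * x r * y s = x r * (y q * κ') := by
    calc y s * x r * y s = (x r * x r) * y s * x r * y s := by rw [xr, one_mul]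
      _ = x r * (x r * y s * x r) * y s := by group
      _ = x r * y q * y s * (κ' * y s) := by rw [e2]; group
      _ = x r * y q * (y s * y s) * κ' := by rw [kc hκ' a5]; group
      _ = x r * (y q * κ') := by rw [ys]; group
  set u := y r * y s * y r * y s with hu
  have hui : u⁻¹ = y s * y r * y s * y r := by
    rw [hu, mul_inv_rev, mul_inv_rev, mul_inv_rev, inv_eq_of_mul_eq_one_left yr, inv_eq_of_mul_eq_one_left ys]
    group
  have uq : u * y q = y q * u := by
    calc u * y q = y r * y s * y r * (y s * y q) := by rw [hu]; group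
      _ = y r * y s * (y r * y q) * y s := by rw [b2]; group
      _ = y r * (y s * y q) * y r * y s := by rw [b1]; group
      _ = (y r * y q) * y s * y r * y s := by rw [b2]; group
      _ = y q * u := by rw [b1, hu]; group
  have uxq : u * x q = x q * u := D.yy_k hr hs (D.xL q hq) a6.symm a7.symm
  -- `t u t`
  obtain ⟨lam, hlam, htu⟩ : ∃ lam, (lam = 1 ∨ lam = x q) ∧ t * u * t = u * lam := by
    have e3 : t * u * t = u * (κ * κ' * x q) := by
      calc t * u * t = t * y r * 1 * y s * 1 * y r * 1 * y s * t := by rw [hu]; group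
        _ = t * y r * (t * t) * y s * (t * t) * y r * (t * t) * y s * t := by rw [tt]
        _ = (t * y r * t) * (t * y s * t) * (t * y r * t) * (t * y s * t) := by group
        _ = (y r * x r) * (y s * x s) * (y r * x r) * (y s * x s) := by rw [D.tyt R hr, D.tyt R hs]
        _ = y r * (x r * y s) * (x s * y r) * (x r * y s) * x s := by group
        _ = y r * (y q * y s * κ' * x r) * (y q * y r * κ * x s) * (y q * y s * κ' * x r) * x s := by rw [m1, m2]
        _ = (y r * y q) * y s * κ' * (x r * y q) * y r * κ * (x s * y q) * y s * κ' * x r * x s := by group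
        _ = (y q * y r) * y s * κ' * (y q * x r) * y r * κ * (y q * x s) * y s * κ' * x r * x s := by
          rw [b1, a1, a2]
        _ = y q * y r * y s * (κ' * y q) * x r * y r * (κ * y q) * x s * y s * κ' * x r * x s := by group
        _ = y q * y r * y s * (y q * κ') * x r * y r * (y q * κ) * x s * y s * κ' * x r * x s := by
          rw [kc hκ' a3, kc hκ a3]
        _ = y q * y r * (y s * y q) * κ' * (x r * y r) * y q * κ * (x s * y s) * κ' * x r * x s := by group
        _ = y q * y r * (y q * y s) * κ' * (y r * x r) * y q * κ * (y s * x s) * κ' * x r * x s := by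
          rw [b2, a8, a9]
        _ = y q * (y r * y q) * y s * (κ' * y r) * (x r * y q) * (κ * y s) * x s * κ' * x r * x s := by group
        _ = y q * (y q * y r) * y s * (y r * κ') * (y q * x r) * (y s * κ) * x s * κ' * x r * x s := by
          rw [b1, kc hκ' a4, a1, kc hκ a5]
        _ = (y q * y q) * y r * y s * y r * (κ' * y q) * (x r * y s) * κ * x s * κ' * x r * x s := by group
        _ = y r * y s * y r * (y q * κ') * (y q * y s * κ' * x r) * κ * x s * κ' * x r * x s := by
          rw [yq, one_mul, kc hκ' a3, m1]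
        _ = y r * y s * y r * y q * (κ' * y q) * y s * κ' * (x r * κ) * x s * κ' * x r * x s := by group
        _ = y r * y s * y r * y q * (y q * κ') * y s * κ' * (κ * x r) * x s * κ' * x r * x s := by
          rw [kc hκ' a3, kc hκ xqr]
        _ = y r * y s * y r * (y q * y q) * (κ' * y s) * κ' * κ * x r * (x s * κ') * x r * x s := by group
        _ = y r * y s * y r * (y s * κ') * κ' * κ * x r * (κ' * x s) * x r * x s := by
          rw [yq, mul_one, kc hκ' a5, kc hκ' xqs]
        _ = u * (κ' * κ') * κ * (x r * κ') * x s * x r * x s := by rw [hu]; group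
        _ = u * κ * (κ' * x r) * x s * x r * x s := by rw [ks hκ', mul_one, kc hκ' xqr]
        _ = u * κ * κ' * x r * (x s * x r * x s) := by group
        _ = u * κ * κ' * (x r * x r) * x q := by rw [xc]; group
        _ = u * (κ * κ' * x q) := by rw [xr]; group
    refine ⟨κ * κ' * x q, ?_, e3⟩
    rcases hκ with h | h <;> rcases hκ' with h' | h' <;> rw [h, h']
    · right; rw [one_mul, one_mul]
    · left; rw [one_mul, xq]
    · left; rw [mul_one, xq]
    · right; rw [xq, one_mul]
  -- correct by `y q`
  obtain ⟨ε, hε, hv⟩ : ∃ ε, (ε = 1 ∨ ε = y q) ∧ (u * ε) * t = t * (u * ε) := by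
    rcases hlam with h | h
    · refine ⟨1, Or.inl rfl, ?_⟩
      rw [h, mul_one] at htu
      rw [mul_one]
      calc u * t = (t * t) * u * t := by rw [tt, one_mul]
        _ = t * (t * u * t) := by group
        _ = t * u := by rw [htu]
    · refine ⟨y q, Or.inr rfl, ?_⟩
      rw [h] at htu
      calc u * y q * t = (t * t) * u * 1 * y q * t := by rw [tt, one_mul, mul_one]
        _ = (t * t) * u * (t * t) * y q * t := by rw [tt]
        _ = t * (t * u * t) * (t * y q * t) := by group
        _ = t * (u * x q) * (y q * x q) := by rw [htu, D.tyt R hq]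
        _ = t * u * (x q * y q) * x q := by group
        _ = t * u * y q * (x q * x q) := by rw [a3]; group
        _ = t * (u * y q) := by rw [xq]; group
  have hεs : ε * ε = 1 := by
    rcases hε with h | h <;> rw [h]
    · rw [mul_one]
    · exact yq
  have hεc : ∀ {z : G}, y q * z = z * y q → ε * z = z * ε := fun {z} h' => by
    rcases hε with h | h <;> rw [h]
    · rw [mul_one, one_mul]
    · exact h'
  obtain ⟨τ, α, β, γ, hτ, hα, hβ, hγ, he⟩ := D.dc' r hr s hs h (u * ε) hv fun k hk h1 h2 => by
    have e3 : k * x q = x q * k := by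
      have e4 : x q = x r * (x s * x r * x s) := by rw [xc, ← mul_assoc, xr, one_mul]
      rw [e4]
      calc k * (x r * (x s * x r * x s)) = (k * x r) * x s * x r * x s := by group
        _ = x r * (k * x s) * x r * x s := by rw [h1]; group
        _ = x r * x s * (k * x r) * x s := by rw [h2]; group
        _ = x r * x s * x r * (k * x s) := by rw [h1]; group
        _ = x r * (x s * x r * x s) * k := by rw [h2]; group
    have e5 : ε * k = k * ε := hεc (D.yC q hq k hk e3).symm
    rw [mul_assoc, e5, ← mul_assoc, D.yy_k hr hs hk h1 h2, mul_assoc]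
  rw [← hqdef] at hγ
  set w := u * ε with hw
  have hyrw : y r * w * y r = w⁻¹ := by
    rw [hw, mul_inv_rev, inv_eq_of_mul_eq_one_left hεs, hui]
    have e3 : ε * y r = y r * ε := hεc b1.symm
    have e4 : ε * y s = y s * ε := hεc b2.symm
    calc y r * (u * ε) * y r = (y r * y r) * y s * y r * y s * (ε * y r) := by rw [hu]; group
      _ = y s * y r * (y s * y r) * ε := by rw [yr, e3]; group
      _ = y s * y r * y s * (ε * y r) := by rw [e3]; group
      _ = y s * y r * (ε * y s) * y r := by rw [e4]; group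
      _ = y s * (ε * y r) * y s * y r := by rw [e3]; group
      _ = (ε * y s) * y r * y s * y r := by rw [e4]; group
      _ = ε * (y s * y r * y s * y r) := by group
  have hysw : y s * w * y s = w⁻¹ := by
    rw [hw, mul_inv_rev, inv_eq_of_mul_eq_one_left hεs, hui]
    have e3 : ε * y r = y r * ε := hεc b1.symm
    have e4 : ε * y s = y s * ε := hεc b2.symm
    calc y s * (u * ε) * y s = y s * y r * y s * y r * y s * (ε * y s) := by rw [hu]; group
      _ = y s * y r * y s * y r * (y s * y s) * ε := by rw [e4]; group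
      _ = y s * y r * y s * (ε * y r) := by rw [ys, e3]; group
      _ = y s * y r * (ε * y s) * y r := by rw [e4]; group
      _ = y s * (ε * y r) * y s * y r := by rw [e3]; group
      _ = (ε * y s) * y r * y s * y r := by rw [e4]; group
      _ = ε * (y s * y r * y s * y r) := by group
  -- `w` and its inverse
  have hτs : τ * τ = 1 := by rcases hτ with h | h <;> rw [h]; exacts [mul_one 1, tt]
  have hαs : α * α = 1 := by rcases hα with h | h <;> rw [h]; exacts [mul_one 1, xr]
  have hβs : β * β = 1 := by rcases hβ with h | h <;> rw [h]; exacts [mul_one 1, xs]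
  have hγs : γ * γ = 1 := ks hγ
  have hτc : ∀ {z : G}, t * z = z * t → τ * z = z * τ := fun {z} h' => by
    rcases hτ with h | h <;> rw [h]
    · rw [mul_one, one_mul]
    · exact h'
  have hτα : τ * α = α * τ := hτc (by rcases hα with h | h <;> rw [h]; exacts [by rw [mul_one, one_mul], tr])
  have hτβ : τ * β = β * τ := hτc (by rcases hβ with h | h <;> rw [h]; exacts [by rw [mul_one, one_mul], ts])
  have hτγ : τ * γ = γ * τ := hτc (by rcases hγ with h | h <;> rw [h]; exacts [by rw [mul_one, one_mul], tq])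
  have hγα : γ * α = α * γ := kc hγ (by rcases hα with h | h <;> rw [h]; exacts [by rw [mul_one, one_mul], xqr])
  have hγβ : γ * β = β * γ := kc hγ (by rcases hβ with h | h <;> rw [h]; exacts [by rw [mul_one, one_mul], xqs])
  obtain ⟨δ, hδ, hba⟩ : ∃ δ, (δ = 1 ∨ δ = x q) ∧ β * α = α * β * δ := by
    rcases hα with h | h <;> rcases hβ with h' | h' <;> rw [h, h']
    · exact ⟨1, Or.inl rfl, by group⟩
    · exact ⟨1, Or.inl rfl, by group⟩
    · exact ⟨1, Or.inl rfl, by group⟩
    · refine ⟨x q, Or.inr rfl, ?_⟩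
      calc x s * x r = x s * x r * (x s * x s) := by rw [xs, mul_one]
        _ = (x s * x r * x s) * x s := by group
        _ = x r * x s * x q := by rw [xc, mul_assoc, xqs, ← mul_assoc]
  have hδα : δ * α = α * δ := kc hδ (by rcases hα with h | h <;> rw [h]; exacts [by rw [mul_one, one_mul], xqr])
  have hδβ : δ * β = β * δ := kc hδ (by rcases hβ with h | h <;> rw [h]; exacts [by rw [mul_one, one_mul], xqs])
  have hwi : w⁻¹ = τ * α * β * γ * δ := by
    have e3 : γ * δ = δ * γ := kc hγ (by rcases hδ with h | h <;> rw [h]; rw [mul_one, one_mul])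
    rw [he, mul_inv_rev, mul_inv_rev, mul_inv_rev, inv_eq_of_mul_eq_one_left hτs, inv_eq_of_mul_eq_one_left hαs,
      inv_eq_of_mul_eq_one_left hβs, inv_eq_of_mul_eq_one_left hγs]
    calc γ * (β * (α * τ)) = γ * (β * α) * τ := by group
      _ = γ * α * β * (δ * τ) := by rw [hba]; group
      _ = (γ * α) * β * (τ * δ) := by
        rw [← hτc (z := δ) (by rcases hδ with h | h <;> rw [h]; exacts [by rw [mul_one, one_mul], tq])]
      _ = α * (γ * β) * τ * δ := by rw [hγα]; group
      _ = α * β * (γ * τ) * δ := by rw [hγβ]; group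
      _ = α * (β * τ) * γ * δ := by rw [← hτγ]; group
      _ = (α * τ) * β * γ * δ := by rw [← hτβ]; group
      _ = τ * α * β * γ * δ := by rw [← hτα]
  have hxL : ∀ {k}, (k = 1 ∨ k = x q) → k ∈ L := fun {k} h => by
    rcases h with h | h <;> rw [h]
    · exact one_mem _
    · exact D.xL q hq
  -- auxiliary: distinct elements
  have xr_ne : ∀ {k : G}, (k = 1 ∨ k = x q) → x r ≠ k := fun {k} h e => by
    have e3 := xc
    rw [e, mul_assoc, kc h xqs, ← mul_assoc, xs, one_mul] at e3
    exact D.x_ne q hq (mul_eq_left.1 e3.symm)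
  have xs_ne : ∀ {k : G}, (k = 1 ∨ k = x q) → x s ≠ k := fun {k} h e => by
    have e3 := xc
    rw [e, kc h xqr, mul_assoc, ks h, mul_one] at e3
    exact D.x_ne q hq (mul_eq_left.1 e3.symm)
  -- conjugation by `y r`
  have yrα : y r * α * y r = α := by
    rcases hα with h | h <;> rw [h]
    · rw [mul_one, yr]
    · rw [← a8, mul_assoc, yr, mul_one]
  have yrγ : y r * γ * y r = γ := by
    rw [← kc hγ a4, mul_assoc, yr, mul_one]
  have ysβ : y s * β * y s = β := by
    rcases hβ with h | h <;> rw [h]
    · rw [mul_one, ys]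
    · rw [← a9, mul_assoc, ys, mul_one]
  have ysγ : y s * γ * y s = γ := by
    rw [← kc hγ a5, mul_assoc, ys, mul_one]
  obtain ⟨η, hη, yrτ⟩ : ∃ η, (η = 1 ∧ τ = 1 ∨ η = x r ∧ τ = t) ∧ y r * τ * y r = τ * η := by
    rcases hτ with h | h
    · exact ⟨1, Or.inl ⟨rfl, h⟩, by rw [h, mul_one, yr, mul_one]⟩
    · exact ⟨x r, Or.inr ⟨rfl, h⟩, by rw [h, D.ty r hr]⟩
  obtain ⟨ζ, hζ, yrβ⟩ : ∃ ζ, (ζ = 1 ∧ β = 1 ∨ ζ = y q * κ ∧ β = x s) ∧ y r * β * y r = β * ζ := by
    rcases hβ with h | h
    · exact ⟨1, Or.inl ⟨rfl, h⟩, by rw [h, mul_one, yr, mul_one]⟩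
    · exact ⟨y q * κ, Or.inr ⟨rfl, h⟩, by rw [h, m3]⟩
  have hηαβ : η * α * β * ζ = α * β * δ := by
    apply mul_right_cancel (b := γ)
    apply mul_left_cancel (a := τ)
    have e3 : y r * w * y r = (τ * η) * α * (β * ζ) * γ := by
      rw [← yrτ, ← yrβ]
      nth_rewrite 1 [he]
      calc y r * (τ * α * β * γ) * y r = y r * τ * 1 * α * 1 * β * 1 * γ * y r := by group
        _ = y r * τ * (y r * y r) * α * (y r * y r) * β * (y r * y r) * γ * y r := by rw [yr]
        _ = (y r * τ * y r) * (y r * α * y r) * (y r * β * y r) * (y r * γ * y r) := by group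
        _ = (y r * τ * y r) * α * (y r * β * y r) * γ := by rw [yrα, yrγ]
    have e4 : γ * δ = δ * γ := kc hγ (by rcases hδ with h | h <;> rw [h]; rw [mul_one, one_mul])
    calc τ * (η * α * β * ζ * γ) = (τ * η) * α * (β * ζ) * γ := by group
      _ = τ * α * β * (γ * δ) := by rw [← e3, hyrw, hwi]; group
      _ = τ * (α * β * δ * γ) := by rw [e4]; group
  have hαL : α ∈ L := by rcases hα with h | h <;> rw [h]; exacts [one_mem _, D.xL r hr]
  have hβL : β ∈ L := by rcases hβ with h | h <;> rw [h]; exacts [one_mem _, D.xL s hs]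
  have hηL : η ∈ L := by rcases hη with h | h <;> rw [h.1]; exacts [one_mem _, D.xL r hr]
  have hβ1 : β = 1 := by
    rcases hζ with h | h
    · exact h.2
    · exfalso
      have e3 : y q = (η * α * β)⁻¹ * (α * β * δ) * κ⁻¹ := by
        rw [← hηαβ, h.1]; group
      exact D.y_mem R hq (by
        rw [e3]
        exact mul_mem (mul_mem (inv_mem (mul_mem (mul_mem hηL hαL) hβL)) (mul_mem (mul_mem hαL hβL) (hxL hδ)))
          (inv_mem (hxL hκ)))
  have hζ1 : ζ = 1 := by
    rcases hζ with h | h
    · exact h.1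
    · exfalso
      rw [hβ1] at h
      exact D.x_ne s hs h.2.symm
  have hτ1 : τ = 1 := by
    rcases hη with h | h
    · exact h.2
    · exfalso
      rw [hβ1, hζ1, h.1, mul_one, mul_one, mul_one, ← hδα] at hηαβ
      exact xr_ne hδ (mul_right_cancel hηαβ)
  -- conjugation by `y s`
  have hα1 : α = 1 := by
    rcases hα with h | h
    · exact h
    · exfalso
      have hδ1 : α = α * δ := by
        have e3 := hba
        rw [hβ1, one_mul, mul_one] at e3
        exact e3
      have hwe : w = x r * γ := by rw [he, hτ1, hβ1, h]; group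
      have e3 : y s * w * y s = x r * (y q * κ') * γ := by
        rw [← m4, hwe]
        calc y s * (x r * γ) * y s = y s * x r * 1 * γ * y s := by group
          _ = y s * x r * (y s * y s) * γ * y s := by rw [ys]
          _ = (y s * x r * y s) * (y s * γ * y s) := by group
          _ = y s * x r * y s * γ := by rw [ysγ]
      have e4 : y q = (x r)⁻¹ * w⁻¹ * γ⁻¹ * κ'⁻¹ := by
        rw [← hysw, e3]; group
      have hwL : w ∈ L := by rw [hwe]; exact mul_mem (D.xL r hr) (hxL hγ)
      exact D.y_mem R hq (by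
        rw [e4]
        exact mul_mem (mul_mem (mul_mem (inv_mem (D.xL r hr)) (inv_mem hwL)) (inv_mem (hxL hγ))) (inv_mem (hxL hκ')))
  refine ⟨γ, ε, hγ, hε, ?_⟩
  rw [hτ1, hα1, hβ1, one_mul, one_mul, one_mul] at he
  calc u = (u * ε) * ε := by rw [mul_assoc, hεs, mul_one]
    _ = γ * ε := by rw [← hw, he]

/-! ### The doubled root groups -/

/-- The four-group `⟨x_r, y_r⟩`. -/
def four (x y : E → G) (r : E) : Subgroup G := Subgroup.closure {x r, y r}

theorem x_mem_four (x y : E → G) (r : E) : x r ∈ four x y r := Subgroup.subset_closure (by simp)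

theorem y_mem_four (x y : E → G) (r : E) : y r ∈ four x y r := Subgroup.subset_closure (by simp)

/-- The root group is `{1, x r}`. -/
theorem mem_X (D : Data ip Φ t L x y) {r : E} (hr : r ∈ Φ) {g : G} : g ∈ Subgroup.zpowers (x r) ↔ g = 1 ∨ g = x r := by
  constructor
  · rintro ⟨k, rfl⟩
    have h2 : x r ^ (2 : ℤ) = 1 := by rw [zpow_ofNat, pow_two]; exact D.x_sq r hr
    rcases Int.even_or_odd' k with ⟨m, rfl | rfl⟩
    · left
      show x r ^ (2 * m) = 1
      rw [zpow_mul, h2, one_zpow]
    · right
      show x r ^ (2 * m + 1) = x r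
      rw [zpow_add, zpow_mul, h2, one_zpow, one_mul, zpow_one]
  · rintro (rfl | rfl)
    · exact one_mem _
    · exact Subgroup.mem_zpowers _

theorem mem_four (D : Data ip Φ t L x y) (R : Root ip Φ) {r : E} (hr : r ∈ Φ) {g : G} :
    g ∈ four x y r ↔ ∃ a b, (a = 1 ∨ a = x r) ∧ (b = 1 ∨ b = y r) ∧ g = a * b := by
  have xs := D.x_sq r hr
  have ys := D.y_sq r hr
  have c : x r * y r = y r * x r := D.yx hr hr (by rw [R.two r hr]; norm_num)
  constructor
  · intro hg
    unfold four at hg
    induction hg using Subgroup.closure_induction with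
    | mem z hz =>
      rcases hz with rfl | hz
      · exact ⟨x r, 1, Or.inr rfl, Or.inl rfl, (mul_one _).symm⟩
      · rw [Set.mem_singleton_iff] at hz
        subst hz
        exact ⟨1, y r, Or.inl rfl, Or.inr rfl, (one_mul _).symm⟩
    | one => exact ⟨1, 1, Or.inl rfl, Or.inl rfl, (one_mul _).symm⟩
    | mul z w _ _ h1 h2 =>
      obtain ⟨a, b, ha, hb, rfl⟩ := h1
      obtain ⟨a', b', ha', hb', rfl⟩ := h2
      have e : b * a' = a' * b := by
        rcases hb with h | h <;> rcases ha' with h' | h' <;> rw [h, h']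
        · rw [mul_one, one_mul]
        · rw [mul_one, one_mul]
        · exact c.symm
      refine ⟨a * a', b * b', ?_, ?_, ?_⟩
      · rcases ha with h | h <;> rcases ha' with h' | h' <;> rw [h, h']
        · left; rw [one_mul]
        · right; rw [one_mul]
        · right; rw [mul_one]
        · left; exact xs
      · rcases hb with h | h <;> rcases hb' with h' | h' <;> rw [h, h']
        · left; rw [one_mul]
        · right; rw [one_mul]
        · right; rw [mul_one]
        · left; exact ys
      · calc a * b * (a' * b') = a * (b * a') * b' := by group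
          _ = a * a' * (b * b') := by rw [e]; group
    | inv z _ h1 =>
      obtain ⟨a, b, ha, hb, rfl⟩ := h1
      refine ⟨a, b, ha, hb, ?_⟩
      rcases ha with h | h <;> rcases hb with h' | h' <;> rw [h, h']
      · group
      · rw [one_mul]; exact inv_eq_of_mul_eq_one_left ys
      · rw [mul_one]; exact inv_eq_of_mul_eq_one_left xs
      · rw [mul_inv_rev, inv_eq_of_mul_eq_one_left xs, inv_eq_of_mul_eq_one_left ys, c]
  · rintro ⟨a, b, ha, hb, rfl⟩
    refine mul_mem ?_ ?_
    · rcases ha with h | h <;> rw [h]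
      · exact one_mem _
      · exact x_mem_four x y r
    · rcases hb with h | h <;> rw [h]
      · exact one_mem _
      · exact y_mem_four x y r

/-- Two sets of generators which commute. -/
theorem comm_closure {A B : Set G} (h : ∀ a ∈ A, ∀ b ∈ B, a * b = b * a) :
    ∀ a ∈ Subgroup.closure A, ∀ b ∈ Subgroup.closure B, a * b = b * a := by
  have h1 : ∀ a ∈ A, ∀ b ∈ Subgroup.closure B, a * b = b * a := fun a ha b hb => by
    have e : Subgroup.closure B ≤ Subgroup.centralizer {a} := by
      rw [Subgroup.closure_le]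
      intro b hb
      exact Subgroup.mem_centralizer_singleton_iff.2 (h a ha b hb).symm
    exact (Subgroup.mem_centralizer_singleton_iff.1 (e hb)).symm
  intro a ha b hb
  have e : Subgroup.closure A ≤ Subgroup.centralizer {b} := by
    rw [Subgroup.closure_le]
    intro a ha
    exact Subgroup.mem_centralizer_singleton_iff.2 (h1 a ha b hb)
  exact Subgroup.mem_centralizer_singleton_iff.1 (e ha)

/-- Commutators of generators in a subgroup centralised by everything. -/
theorem commutator_closure {A B : Set G} {N : Subgroup G} (hA : ∀ a ∈ A, ∀ n ∈ N, a * n = n * a)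
    (hB : ∀ b ∈ B, ∀ n ∈ N, b * n = n * b) (h : ∀ a ∈ A, ∀ b ∈ B, a * b * a⁻¹ * b⁻¹ ∈ N) :
    ∀ a ∈ Subgroup.closure A, ∀ b ∈ Subgroup.closure B, a * b * a⁻¹ * b⁻¹ ∈ N := by
  have hA' : ∀ a ∈ Subgroup.closure A, ∀ n ∈ N, a * n = n * a := fun a ha n hn =>
    comm_closure (B := (N : Set G)) (fun a ha n hn => hA a ha n hn) a ha n (Subgroup.subset_closure hn)
  have hB' : ∀ a ∈ Subgroup.closure B, ∀ n ∈ N, a * n = n * a := fun a ha n hn =>
    comm_closure (B := (N : Set G)) (fun a ha n hn => hB a ha n hn) a ha n (Subgroup.subset_closure hn)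
  have h1 : ∀ a ∈ A, ∀ b ∈ Subgroup.closure B, a * b * a⁻¹ * b⁻¹ ∈ N := fun a ha b hb => by
    induction hb using Subgroup.closure_induction with
    | mem z hz => exact h a ha z hz
    | one => rw [mul_one, inv_one, mul_one, mul_inv_cancel]; exact one_mem _
    | mul z w hz hw h1 h2 =>
      have e : a * (z * w) * a⁻¹ * (z * w)⁻¹ = (a * z * a⁻¹ * z⁻¹) * (a * w * a⁻¹ * w⁻¹) := by
        have e1 := hB' z hz _ h2
        calc a * (z * w) * a⁻¹ * (z * w)⁻¹ = (a * z * a⁻¹ * z⁻¹) * (z * (a * w * a⁻¹ * w⁻¹)) * z⁻¹ := by group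
          _ = (a * z * a⁻¹ * z⁻¹) * (a * w * a⁻¹ * w⁻¹) := by rw [e1]; group
      rw [e]
      exact mul_mem h1 h2
    | inv z hz h1 =>
      have e : a * z⁻¹ * a⁻¹ * z⁻¹⁻¹ = (a * z * a⁻¹ * z⁻¹)⁻¹ := by
        have e1 := hB' z⁻¹ (inv_mem hz) _ (inv_mem h1)
        calc a * z⁻¹ * a⁻¹ * z⁻¹⁻¹ = z⁻¹ * (a * z * a⁻¹ * z⁻¹)⁻¹ * z := by group
          _ = (a * z * a⁻¹ * z⁻¹)⁻¹ := by rw [e1]; group
      rw [e]
      exact inv_mem h1
  intro a ha b hb
  induction ha using Subgroup.closure_induction with
  | mem z hz => exact h1 z hz b hb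
  | one => rw [one_mul, inv_one, mul_one, mul_inv_cancel]; exact one_mem _
  | mul z w hz hw h1 h2 =>
    have e : (z * w) * b * (z * w)⁻¹ * b⁻¹ = (w * b * w⁻¹ * b⁻¹) * (z * b * z⁻¹ * b⁻¹) := by
      have e1 := hA' z hz _ h2
      calc (z * w) * b * (z * w)⁻¹ * b⁻¹ = z * (w * b * w⁻¹ * b⁻¹) * (b * z⁻¹ * b⁻¹) := by group
        _ = (w * b * w⁻¹ * b⁻¹) * (z * b * z⁻¹ * b⁻¹) := by rw [e1]; group
    rw [e]
    exact mul_mem h2 h1
  | inv z hz h1 =>
    have e : z⁻¹ * b * z⁻¹⁻¹ * b⁻¹ = (z * b * z⁻¹ * b⁻¹)⁻¹ := by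
      have e1 := hA' z⁻¹ (inv_mem hz) _ (inv_mem h1)
      calc z⁻¹ * b * z⁻¹⁻¹ * b⁻¹ = z⁻¹ * (z * b * z⁻¹ * b⁻¹)⁻¹ * z := by group
        _ = (z * b * z⁻¹ * b⁻¹)⁻¹ := by rw [e1]; group
    rw [e]
    exact inv_mem h1

theorem mem_pair {a b z : G} (h : z ∈ ({a, b} : Set G)) : z = a ∨ z = b := by
  rcases h with h | h
  · exact Or.inl h
  · exact Or.inr h

/-- The doubled root groups of pairs with nonnegative inner product commute. -/
theorem four_comm (D : Data ip Φ t L x y) (R : Root ip Φ) {r s : E} (hr : r ∈ Φ) (hs : s ∈ Φ) (h : 0 ≤ ip r s) :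
    ∀ v ∈ four x y r, ∀ w ∈ four x y s, v * w = w * v := by
  have hy : y r * y s = y s * y r := by
    have hle := R.base.le r hr s hs
    have h3 : ip r s = 0 ∨ ip r s = 1 ∨ ip r s = 2 := by omega
    rcases h3 with h0 | h1 | h2
    · exact D.y_comm_zero R hr hs h0
    · exact D.y_comm_one R hr hs h1
    · rw [R.base.eq r hr s hs h2]
  refine comm_closure fun a ha b hb => ?_
  rcases mem_pair ha with rfl | rfl <;> rcases mem_pair hb with rfl | rfl
  · exact D.x_comm r hr s hs h
  · exact D.yx hs hr (by rw [R.symm]; exact h)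
  · exact (D.yx hr hs h).symm
  · exact hy

/-- The commutator relations of the doubled root groups. -/
theorem four_neg (D : Data ip Φ t L x y) (R : Root ip Φ) {r s : E} (hr : r ∈ Φ) (hs : s ∈ Φ) (h : ip r s = -1) :
    ∀ v ∈ four x y r, ∀ w ∈ four x y s, v * w * v⁻¹ * w⁻¹ ∈ four x y (r + s) := by
  have hq := R.add_mem r hr s hs h
  have hsr : ip s r = -1 := by rw [R.symm, h]
  have i_rq : ip r (r + s) = 1 := by rw [R.add_right, R.two r hr, h]; norm_num
  have i_sq : ip s (r + s) = 1 := by rw [R.add_right, R.two s hs, hsr]; norm_num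
  have hx := x_mem_four x y (r + s)
  have hy := y_mem_four x y (r + s)
  have c1 := D.four_comm R hr hq (by rw [i_rq]; norm_num)
  have c2 := D.four_comm R hs hq (by rw [i_sq]; norm_num)
  have xr := D.x_sq r hr
  have xs := D.x_sq s hs
  have yr := D.y_sq r hr
  have ys := D.y_sq s hs
  have kin : ∀ {k : G}, (k = 1 ∨ k = x (r + s)) → k ∈ four x y (r + s) := fun {k} h => by
    rcases h with h | h <;> rw [h]
    · exact one_mem _
    · exact hx
  refine commutator_closure (fun a ha n hn => c1 a (Subgroup.subset_closure ha) n hn)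
    (fun a ha n hn => c2 a (Subgroup.subset_closure ha) n hn) fun a ha b hb => ?_
  rcases mem_pair ha with rfl | rfl <;> rcases mem_pair hb with rfl | rfl
  · -- `[x r, x s]`
    rw [inv_eq_of_mul_eq_one_left xr, inv_eq_of_mul_eq_one_left xs]
    have e : x r * x s * x r * x s = x (r + s) := by
      calc x r * x s * x r * x s = x r * (x s * x r * x s) := by group
        _ = (x r * x r) * x (r + s) := by rw [D.x_conj r hr s hs h]; group
        _ = x (r + s) := by rw [xr, one_mul]
    rw [e]
    exact hx
  · -- `[x r, y s]`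
    obtain ⟨κ, hκ, e⟩ := D.lemA' R hs hr hsr
    rw [add_comm s r] at hκ e
    rw [inv_eq_of_mul_eq_one_left xr, inv_eq_of_mul_eq_one_left ys, e]
    have e2 : y (r + s) * y s * κ * y s = y (r + s) * κ := by
      have e3 := c2 (y s) (y_mem_four x y s) κ (kin hκ)
      calc y (r + s) * y s * κ * y s = y (r + s) * (y s * κ) * y s := by group
        _ = y (r + s) * κ * (y s * y s) := by rw [e3]; group
        _ = y (r + s) * κ := by rw [ys, mul_one]
    rw [e2]
    exact mul_mem hy (kin hκ)
  · -- `[y r, x s]`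
    obtain ⟨κ, hκ, e⟩ := D.lemA' R hr hs h
    rw [inv_eq_of_mul_eq_one_left yr, inv_eq_of_mul_eq_one_left xs]
    have e2 : y r * x s * y r * x s = y r * (y (r + s) * y r * κ) := by rw [← e]; group
    have e3 : y r * (y (r + s) * y r * κ) = y (r + s) * κ := by
      have e4 := c1 (y r) (y_mem_four x y r) _ hy
      calc y r * (y (r + s) * y r * κ) = (y r * y (r + s)) * y r * κ := by group
        _ = y (r + s) * (y r * y r) * κ := by rw [e4]; group
        _ = y (r + s) * κ := by rw [yr, mul_one]
    rw [e2, e3]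
    exact mul_mem hy (kin hκ)
  · -- `[y r, y s]`
    rw [inv_eq_of_mul_eq_one_left yr, inv_eq_of_mul_eq_one_left ys]
    obtain ⟨γ, ε, hγ, hε, e⟩ := D.spec R hr hs h
    rw [e]
    refine mul_mem (kin hγ) ?_
    rcases hε with h | h <;> rw [h]
    · exact one_mem _
    · exact hy

/-- **The doubled root groups** in the form of `SL.Defs`. -/
theorem dbl (D : Data ip Φ t L x y) (R : Root ip Φ) :
    Dbl t ip Φ (fun r => Subgroup.zpowers (x r)) (four x y) where
  tt := D.tt
  XW := fun r _ => by
    rw [Subgroup.zpowers_le]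
    exact x_mem_four x y r
  sq := fun r hr w hw => by
    obtain ⟨a, b, ha, hb, rfl⟩ := (D.mem_four R hr).1 hw
    have c : x r * y r = y r * x r := D.yx hr hr (by rw [R.two r hr]; norm_num)
    have e : b * a = a * b := by
      rcases hb with h | h <;> rcases ha with h' | h' <;> rw [h, h']
      · rw [mul_one, one_mul]
      · rw [mul_one, one_mul]
      · exact c.symm
    have ea : a * a = 1 := by rcases ha with h | h <;> rw [h]; exacts [mul_one 1, D.x_sq r hr]
    have eb : b * b = 1 := by rcases hb with h | h <;> rw [h]; exacts [mul_one 1, D.y_sq r hr]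
    calc a * b * (a * b) = a * (b * a) * b := by group
      _ = (a * a) * (b * b) := by rw [e]; group
      _ = 1 := by rw [ea, eb, one_mul]
  conj_t := fun r hr w hw => by
    obtain ⟨a, b, ha, hb, rfl⟩ := (D.mem_four R hr).1 hw
    have e1 : t * a * t = a := by
      rcases ha with h | h <;> rw [h]
      · rw [mul_one, D.tt]
      · rw [D.tx hr, mul_assoc, D.tt, mul_one]
    have e2 : t * b * t ∈ four x y r := by
      rcases hb with h | h <;> rw [h]
      · rw [mul_one, D.tt]; exact one_mem _
      · rw [D.tyt R hr]; exact mul_mem (y_mem_four x y r) (x_mem_four x y r)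
    have e3 : t * (a * b) * t = (t * a * t) * (t * b * t) := by
      calc t * (a * b) * t = t * a * 1 * b * t := by group
        _ = t * a * (t * t) * b * t := by rw [D.tt]
        _ = (t * a * t) * (t * b * t) := by group
    rw [e3, e1]
    refine mul_mem ?_ e2
    rcases ha with h | h <;> rw [h]
    · exact one_mem _
    · exact x_mem_four x y r
  cent := fun r hr w hw => by
    have c : x r * y r = y r * x r := D.yx hr hr (by rw [R.two r hr]; norm_num)
    rw [D.mem_X hr]
    obtain ⟨a, b, ha, hb, rfl⟩ := (D.mem_four R hr).1 hw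
    have e1 : t * a = a * t := by
      rcases ha with h | h <;> rw [h]
      · rw [mul_one, one_mul]
      · exact D.tx hr
    rcases hb with h | h
    · rw [h, mul_one]
      exact ⟨fun _ => ha, fun _ => e1⟩
    · rw [h]
      constructor
      · intro h2
        exfalso
        rw [← mul_assoc, e1, mul_assoc, mul_assoc] at h2
        have h3 := mul_left_cancel h2
        have h4 := D.tyt R hr
        rw [h3, mul_assoc, D.tt, mul_one] at h4
        exact D.x_ne r hr (mul_eq_left.1 h4.symm)
      · intro h2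
        exfalso
        refine D.y_mem R hr ?_
        have h3 : a ∈ L := by rcases ha with h | h <;> rw [h]; exacts [one_mem _, D.xL r hr]
        have h4 : a * y r ∈ L := by rcases h2 with h | h <;> rw [h]; exacts [one_mem _, D.xL r hr]
        exact (Subgroup.mul_mem_cancel_left L h3).1 h4
  brk := fun r hr w hw => by
    show w⁻¹ * (t * w * t) ∈ Subgroup.zpowers (x r)
    rw [D.mem_X hr]
    obtain ⟨a, b, ha, hb, rfl⟩ := (D.mem_four R hr).1 hw
    have e1 : t * a * t = a := by
      rcases ha with h | h <;> rw [h]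
      · rw [mul_one, D.tt]
      · rw [D.tx hr, mul_assoc, D.tt, mul_one]
    have e3 : t * (a * b) * t = a * (t * b * t) := by
      calc t * (a * b) * t = t * a * 1 * b * t := by group
        _ = t * a * (t * t) * b * t := by rw [D.tt]
        _ = (t * a * t) * (t * b * t) := by group
        _ = a * (t * b * t) := by rw [e1]
    rw [e3]
    rcases hb with h | h <;> rw [h]
    · left; rw [mul_one, mul_one, D.tt, mul_one, inv_mul_cancel]
    · right; rw [D.tyt R hr]; group
  surj := fun r hr z hz => by
    rcases (D.mem_X hr).1 hz with rfl | rfl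
    · exact ⟨1, one_mem _, by rw [mul_one, D.tt]; group⟩
    · exact ⟨y r, y_mem_four x y r, by rw [D.tyt R hr]; group⟩
  pos := fun r hr s hs h => D.four_comm R hr hs h
  neg := fun r hr s hs h => D.four_neg R hr hs h

/-- **The end of the argument** over the field with two elements. -/
theorem exists_hom [Finite G] (D : Data ip Φ t L x y) (R : Root ip Φ) (ht : E →+ ℤ)
    (dir : ∀ a ∈ Φ, 0 < ht a →
      Subgroup.zpowers (x a) ⊓ (⨆ b : E, ⨆ _ : b ∈ Φ ∧ ht a ≤ ht b ∧ b ≠ a, Subgroup.zpowers (x b)) = ⊥)
    (hodd : Odd ((Cfsg.Agent.OddHalf.SL.Bridge.pos ht Φ (fun r => Subgroup.zpowers (x r)) ⊔ Subgroup.zpowers t).relIndex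
      (Subgroup.centralizer {t}))) :
    ∃ m : G →* ℤˣ, m t = -1 := by
  refine Cfsg.Agent.OddHalf.SL.Bridge.of_dbl R.base (D.dbl R) ht dir (fun h => D.t_notMem ?_) hodd
  refine (?_ : Cfsg.Agent.OddHalf.SL.Bridge.pos ht Φ (fun r => Subgroup.zpowers (x r)) ≤ L) h
  exact iSup₂_le fun a ha => by rw [Subgroup.zpowers_le]; exact D.xL a ha.1

end Data

end Cfsg.Agent.Doubling.Rel
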